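import Groth.Agent.Deform.CentralLift.Hom
import Groth.Agent.Deform.PowTorus
import Groth.Agent.Deform.QuasiIsotrivial
import Groth.Agent.UnramMisc.QFSmooth

/-! Finite étale groups of multiplicative type are killed locally by invertible integers. -/

set_option autoImplicit false
set_option linter.style.haveILetI false
set_option linter.unusedSectionVars false

universe u

open CategoryTheory CategoryTheory.Limits MonoidalCategory CartesianMonoidalCategory MonObj GrpObj AlgebraicGeometry
open SGA3x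

attribute [local instance] CategoryTheory.Hom.monoid CategoryTheory.Hom.group

namespace Groth.Agent.Deform.CentralLift

/-- A finite étale diagonalisable group over a field has finite character group of invertible order. -/
theorem card_ne_zero (K : Type u) [Field K] (M : Type) [AddCommGroup M]
    (he : Etale (Red.DS (Spec (CommRingCat.of K)) M).hom) (hf : IsFinite (Red.DS (Spec (CommRingCat.of K)) M).hom) :
    Finite M ∧ (Nat.card M : K) ≠ 0 := by
  let A := MonoidAlgebra K (Multiplicative M)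
  obtain ⟨e⟩ := GrpSchLib.AffineHopf.nonempty_DS_iso K M
  let el : (GrpSchLib.AffineHopf.sp K A).left ≅ (Red.DS (Spec (CommRingCat.of K)) M).left :=
    (Grp.forget _ ⋙ Over.forget _).mapIso e
  have hel : el.hom ≫ (Red.DS (Spec (CommRingCat.of K)) M).hom = Spec.map (CommRingCat.ofHom (algebraMap K A)) :=
    Over.w ((Grp.forget _).map e.hom)
  have hE : Etale (Spec.map (CommRingCat.ofHom (algebraMap K A))) := by
    rw [← hel]
    exact (MorphismProperty.cancel_left_of_respectsIso @Etale _ _).mpr he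
  have hF : IsFinite (Spec.map (CommRingCat.ofHom (algebraMap K A))) := by
    rw [← hel]
    exact (MorphismProperty.cancel_left_of_respectsIso @IsFinite _ _).mpr hf
  haveI : Module.Finite K A := RingHom.finite_algebraMap.mp ((IsFinite.SpecMap_iff _).mp hF)
  haveI : Algebra.Etale K A := RingHom.etale_algebraMap.mp ((HasRingHomProperty.Spec_iff (P := @Etale)).mp hE)
  haveI : Finite (Multiplicative M) := Module.Finite.finite_basis (MonoidAlgebra.basis (Multiplicative M) K)
  haveI : Finite M := Finite.of_equiv (Multiplicative M) Multiplicative.toAdd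
  haveI : IsReduced A := Algebra.FormallyUnramified.isReduced_of_field K A
  refine ⟨inferInstance, fun h0 => ?_⟩
  haveI := Fintype.ofFinite M
  have hp0 : ringChar K ∣ Fintype.card M := by
    rw [← ringChar.spec, ← Nat.card_eq_fintype_card]; exact h0
  have hne : ringChar K ≠ 0 := fun h => Fintype.card_ne_zero (α := M) (by rwa [h, zero_dvd_iff] at hp0)
  haveI hp : Fact (ringChar K).Prime := ⟨(CharP.char_is_prime_or_zero K (ringChar K)).resolve_right hne⟩
  obtain ⟨m, hm⟩ := exists_prime_addOrderOf_dvd_card (ringChar K) hp0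
  let g : A := MonoidAlgebra.single (Multiplicative.ofAdd m) 1
  have hg : g ^ ringChar K = 1 := by
    rw [MonoidAlgebra.single_pow, one_pow, ← ofAdd_nsmul, ← hm, addOrderOf_nsmul_eq_zero, ofAdd_zero]
    rfl
  haveI : CharP A (ringChar K) :=
    charP_of_injective_algebraMap (algebraMap K A).injective (ringChar K)
  have hnil : IsNilpotent (g - 1) := ⟨ringChar K, by rw [sub_pow_char, hg, one_pow, sub_self]⟩
  have hg1 : g = 1 := sub_eq_zero.mp hnil.eq_zero
  have hm0 : m = 0 := Multiplicative.ofAdd.injective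
    ((MonoidAlgebra.single_left_inj one_ne_zero).mp (hg1.trans MonoidAlgebra.one_def))
  rw [hm0, addOrderOf_zero] at hm
  exact hp.out.one_lt.ne hm

variable {S : Scheme.{u}}

/-- Maps into an étale scheme agree on an open containing where they agree. -/
theorem exists_eq_on {X Y : Over S} [Etale Y.hom] (a b : X ⟶ Y) {Z : Scheme.{u}} (g : Z ⟶ X.left)
    (h : g ≫ a.left = g ≫ b.left) :
    ∃ U : X.left.Opens, (∀ z, g z ∈ U) ∧ inclU U ≫ a = inclU U ≫ b := by
  let ψ : X.left ⟶ pullback Y.hom Y.hom := pullback.lift a.left b.left ((Over.w a).trans (Over.w b).symm)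
  let D := (pullback.diagonal Y.hom).opensRange
  refine ⟨ψ ⁻¹ᵁ D, fun z => ?_, ?_⟩
  · show ψ (g z) ∈ Set.range (pullback.diagonal Y.hom)
    refine ⟨(g ≫ a.left) z, ?_⟩
    rw [← Scheme.Hom.comp_apply, ← Scheme.Hom.comp_apply]
    refine congrArg (fun k : Z ⟶ pullback Y.hom Y.hom => k z) ?_
    apply pullback.hom_ext
    · rw [Category.assoc, pullback.diagonal_fst, Category.comp_id, Category.assoc, pullback.lift_fst]
    · rw [Category.assoc, pullback.diagonal_snd, Category.comp_id, Category.assoc, pullback.lift_snd, h]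
  · have hr : Set.range ((ψ ⁻¹ᵁ D).ι ≫ ψ) ⊆ Set.range (pullback.diagonal Y.hom) := by
      rintro _ ⟨w, rfl⟩
      rw [Scheme.Hom.comp_apply]
      exact w.2
    have hk := IsOpenImmersion.lift_fac (pullback.diagonal Y.hom) ((ψ ⁻¹ᵁ D).ι ≫ ψ) hr
    apply Over.OverMorphism.ext
    show (ψ ⁻¹ᵁ D).ι ≫ a.left = (ψ ⁻¹ᵁ D).ι ≫ b.left
    calc (ψ ⁻¹ᵁ D).ι ≫ a.left = ((ψ ⁻¹ᵁ D).ι ≫ ψ) ≫ pullback.fst _ _ := by rw [Category.assoc, pullback.lift_fst]
      _ = ((ψ ⁻¹ᵁ D).ι ≫ ψ) ≫ pullback.snd _ _ := by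
        rw [← hk, Category.assoc, Category.assoc, pullback.diagonal_fst, pullback.diagonal_snd]
      _ = (ψ ⁻¹ᵁ D).ι ≫ b.left := by rw [Category.assoc, pullback.lift_snd]

theorem etale_of_finite_smooth {X Y : Scheme.{u}} (f : X ⟶ Y) [Smooth f] [IsFinite f] : Etale f :=
  UnramMisc.etale_of_smooth_of_locallyQuasiFinite f

/-- A finite smooth group of multiplicative type is locally killed by an invertible integer. -/
theorem kill_id {H : Over S} [GrpObj H] [Smooth H.hom] [IsFinite H.hom] (hH : SGA3x.IsMultTypeFT H) :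
    Kill (𝟙 H) := by
  intro x
  haveI : Etale H.hom := etale_of_finite_smooth H.hom
  obtain ⟨W, f, M, iM, hf, ⟨w, hw⟩, -, ⟨e⟩⟩ := QuasiIsotrivial.exists_etale_split hH (H.hom x)
  haveI : Etale (Red.bc f H).hom := MorphismProperty.pullback_snd (P := @Etale) _ _ ‹_›
  haveI : IsFinite (Red.bc f H).hom := MorphismProperty.pullback_snd (P := @IsFinite) _ _ ‹_›
  let el : (Red.bc f H).left ≅ (Red.DS W M).left := (Grp.forget _ ⋙ Over.forget _).mapIso e
  have hel : el.inv ≫ (Red.bc f H).hom = (Red.DS W M).hom := Over.w ((Grp.forget _).map e.inv)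
  let K : Type u := W.residueField w
  let wK : Spec (CommRingCat.of K) ⟶ W := W.fromSpecResidueField w
  obtain ⟨d⟩ := GrpSchLib.MultTypeBC.bc_DS wK M
  let dl : (Red.bc wK (Red.DS W M)).left ≅ (Red.DS (Spec (CommRingCat.of K)) M).left :=
    (Grp.forget _ ⋙ Over.forget _).mapIso d
  have hdl : dl.inv ≫ (Red.bc wK (Red.DS W M)).hom = (Red.DS (Spec (CommRingCat.of K)) M).hom :=
    Over.w ((Grp.forget _).map d.inv)
  have hDS : Etale (Red.DS W M).hom ∧ IsFinite (Red.DS W M).hom := by
    rw [← hel]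
    exact ⟨(MorphismProperty.cancel_left_of_respectsIso @Etale _ _).mpr inferInstance,
      (MorphismProperty.cancel_left_of_respectsIso @IsFinite _ _).mpr inferInstance⟩
  have hK : Finite M ∧ (Nat.card M : K) ≠ 0 := by
    refine card_ne_zero K M ?_ ?_
    · rw [← hdl]
      exact (MorphismProperty.cancel_left_of_respectsIso @Etale _ _).mpr
        (MorphismProperty.pullback_snd (P := @Etale) _ _ hDS.1)
    · rw [← hdl]
      exact (MorphismProperty.cancel_left_of_respectsIso @IsFinite _ _).mpr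
        (MorphismProperty.pullback_snd (P := @IsFinite) _ _ hDS.2)
  haveI := hK.1
  let n := Nat.card M
  have hn : (n : S.residueField (H.hom x)) ≠ 0 := by
    rw [← hw]
    exact ne_zero_map f hK.2
  have hDn : (𝟙 (Red.DS W M) ^ n : Red.DS W M ⟶ Red.DS W M) = 1 := by
    rw [PowTorus.pow_DS, show n • AddMonoidHom.id M = 0 from AddMonoidHom.ext fun m => card_nsmul_eq_zero',
      DiagMaps.DSmap_zero]
  have hpow : (Over.pullback f).map (𝟙 H ^ n : H ⟶ H) = (Over.pullback f).map 1 := by
    rw [Extension.pow_bc, show (Over.pullback f).map (1 : H ⟶ H) = 1 from map_one (Over.pullback f).homMonoidHom]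
    let φ : Red.bc f H ⟶ Red.DS W M := e.hom.hom.hom
    haveI : IsIso φ := inferInstanceAs (IsIso ((Grp.forget _).map e.hom))
    haveI : IsMonHom φ := e.hom.hom.isMonHom_hom
    rw [← cancel_mono φ, @Extension.pow_comp_hom _ _ _ _ _ φ e.hom.hom.isMonHom_hom _ _ _, Category.id_comp,
      @MonObj.one_comp _ _ _ _ _ _ _ _ φ e.hom.hom.isMonHom_hom]
    rw [← Category.comp_id φ, ← MonObj.comp_pow, hDn, MonObj.comp_one]
  obtain ⟨U, hU, hUeq⟩ := exists_eq_on (𝟙 H ^ n : H ⟶ H) 1 (pullback.fst H.hom f) (by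
    rw [← map_left_fst, ← map_left_fst, hpow])
  let B : S.Opens := S.basicOpen (n : Γ(S, ⊤))
  have hB : ∀ t : S, t ∈ B ↔ (n : S.residueField t) ≠ 0 := fun t => by
    rw [← Scheme.evaluation_ne_zero_iff_mem_basicOpen (U := ⊤) S t trivial, map_natCast]
  obtain ⟨z, hz⟩ : x ∈ Set.range (pullback.fst H.hom f) := by
    rw [Scheme.Pullback.range_fst]
    exact ⟨w, hw⟩
  refine ⟨U ⊓ H.hom ⁻¹ᵁ B, n, ⟨hz ▸ hU z, (hB _).mpr hn⟩, fun v hv => (hB _).mp hv.2, ?_⟩
  rw [← inclLE_inclU (inf_le_left : U ⊓ H.hom ⁻¹ᵁ B ≤ U), Category.comp_id]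
  calc (inclLE _ ≫ inclU U) ^ n = inclLE _ ≫ inclU U ≫ (𝟙 H ^ n) := by
        rw [MonObj.comp_pow, Category.comp_id, MonObj.comp_pow]
    _ = 1 := by rw [hUeq, MonObj.comp_one, MonObj.comp_one]

end Groth.Agent.Deform.CentralLift
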