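import Groth.Agent.Deform.CentralLift.Torsion

/-! Central morphisms killed locally by integers invertible on the base: lifting along thickenings. -/

set_option autoImplicit false
set_option linter.style.haveILetI false
set_option linter.unusedSectionVars false

universe u

open CategoryTheory CategoryTheory.Limits MonoidalCategory CartesianMonoidalCategory MonObj GrpObj AlgebraicGeometry
open SGA3x

attribute [local instance] CategoryTheory.Hom.monoid CategoryTheory.Hom.group

namespace Groth.Agent.Deform.CentralLift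

variable {S : Scheme.{u}}

/-- An open part, as a scheme over the base. -/
noncomputable def inclU {X : Over S} (U : X.left.Opens) : Over.mk (U.ι ≫ X.hom) ⟶ X := Over.homMk U.ι rfl

/-- Locally killed by an integer invertible in the residue fields. -/
def Kill {G : Over S} [GrpObj G] {X : Over S} (a : X ⟶ G) : Prop :=
  ∀ x : X.left, ∃ (U : X.left.Opens) (n : ℕ), x ∈ U ∧ (∀ w ∈ U, (n : S.residueField (X.hom w)) ≠ 0) ∧
    (inclU U ≫ a) ^ n = 1

/-- A point commuting with all points of all refinements. -/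
def Cent {G : Over S} [GrpObj G] {X : Over S} (a : X ⟶ G) : Prop :=
  ∀ (Y : Over S) (q : Y ⟶ X) (y : Y ⟶ G), (q ≫ a) * y = y * (q ≫ a)

section Basic

variable {G : Over S} [GrpObj G] {X : Over S} {a b : X ⟶ G}

theorem Cent.precomp (h : Cent a) {Y : Over S} (q : Y ⟶ X) : Cent (q ≫ a) := fun Z r y => by
  rw [← Category.assoc]
  exact h Z _ y

theorem Cent.commute (h : Cent a) (b : X ⟶ G) : a * b = b * a := by
  simpa using h X (𝟙 X) b

theorem kill_of_pow {n : ℕ} (hn : ∀ w, (n : S.residueField (X.hom w)) ≠ 0) (h : a ^ n = 1) : Kill a :=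
  fun _ => ⟨⊤, n, trivial, fun w _ => hn w, by rw [← MonObj.comp_pow, h, MonObj.comp_one]⟩

theorem kill_one : Kill (1 : X ⟶ G) := kill_of_pow (n := 1) (fun w => by simp) (pow_one _)

theorem Kill.precomp (h : Kill a) {Y : Over S} (q : Y ⟶ X) : Kill (q ≫ a) := by
  intro y
  obtain ⟨U, n, hx, hn, hp⟩ := h (q.left y)
  let r : Over.mk ((q.left ⁻¹ᵁ U).ι ≫ Y.hom) ⟶ Over.mk (U.ι ≫ X.hom) := Over.homMk (q.left ∣_ U) (by
    show (q.left ∣_ U) ≫ U.ι ≫ X.hom = (q.left ⁻¹ᵁ U).ι ≫ Y.hom
    rw [morphismRestrict_ι_assoc, Over.w q])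
  have hr : inclU (q.left ⁻¹ᵁ U) ≫ q = r ≫ inclU U :=
    Over.OverMorphism.ext (morphismRestrict_ι q.left U).symm
  refine ⟨q.left ⁻¹ᵁ U, n, hx, fun w hw => ?_, ?_⟩
  · rw [show Y.hom w = X.hom (q.left w) by rw [← Scheme.Hom.comp_apply, Over.w q]]
    exact hn _ hw
  · rw [← Category.assoc, hr, Category.assoc, ← MonObj.comp_pow, hp, MonObj.comp_one]

theorem Kill.postcomp (h : Kill a) {G' : Over S} [GrpObj G'] (f : G ⟶ G') [IsMonHom f] : Kill (a ≫ f) := by
  intro x
  obtain ⟨U, n, hx, hn, hp⟩ := h x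
  exact ⟨U, n, hx, hn, by rw [← Category.assoc, ← Extension.pow_comp_hom, hp, MonObj.one_comp]⟩

/-- A smaller open. -/
noncomputable def inclLE {U V : X.left.Opens} (h : U ≤ V) : Over.mk (U.ι ≫ X.hom) ⟶ Over.mk (V.ι ≫ X.hom) :=
  Over.homMk (X.left.homOfLE h) (by
    show X.left.homOfLE h ≫ V.ι ≫ X.hom = U.ι ≫ X.hom
    rw [Scheme.homOfLE_ι_assoc])

theorem inclLE_inclU {U V : X.left.Opens} (h : U ≤ V) : inclLE h ≫ inclU V = inclU U :=
  Over.OverMorphism.ext (Scheme.homOfLE_ι _ h)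

theorem pow_mono {U V : X.left.Opens} (h : U ≤ V) {n m : ℕ} (hnm : n ∣ m) (ha : (inclU V ≫ a) ^ n = 1) :
    (inclU U ≫ a) ^ m = 1 := by
  obtain ⟨k, rfl⟩ := hnm
  rw [← inclLE_inclU h, Category.assoc, ← MonObj.comp_pow, pow_mul, ha, one_pow, MonObj.comp_one]

theorem exists_common (ha : Kill a) (hb : Kill b) (x : X.left) :
    ∃ (U : X.left.Opens) (n : ℕ), x ∈ U ∧ (∀ w ∈ U, (n : S.residueField (X.hom w)) ≠ 0) ∧
      (inclU U ≫ a) ^ n = 1 ∧ (inclU U ≫ b) ^ n = 1 := by
  obtain ⟨U, n, hx, hn, hp⟩ := ha x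
  obtain ⟨V, m, hx', hm, hp'⟩ := hb x
  refine ⟨U ⊓ V, n * m, ⟨hx, hx'⟩, fun w hw => ?_, pow_mono inf_le_left (dvd_mul_right n m) hp,
    pow_mono inf_le_right (dvd_mul_left m n) hp'⟩
  rw [Nat.cast_mul]
  exact mul_ne_zero (hn w hw.1) (hm w hw.2)

theorem Kill.mul (ha : Kill a) (hb : Kill b) (h : a * b = b * a) : Kill (a * b) := by
  intro x
  obtain ⟨U, n, hx, hn, hp, hp'⟩ := exists_common ha hb x
  refine ⟨U, n, hx, hn, ?_⟩
  have hc : Commute (inclU U ≫ a) (inclU U ≫ b) := by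
    show _ * _ = _ * _
    rw [← MonObj.comp_mul, ← MonObj.comp_mul, h]
  rw [MonObj.comp_mul, hc.mul_pow, hp, hp', _root_.one_mul]

theorem Kill.inv (ha : Kill a) : Kill a⁻¹ := by
  intro x
  obtain ⟨U, n, hx, hn, hp⟩ := ha x
  exact ⟨U, n, hx, hn, by rw [GrpObj.comp_inv, inv_pow, hp, inv_one]⟩

theorem Kill.conj (ha : Kill a) (y : X ⟶ G) : Kill (y⁻¹ * a * y) := by
  intro x
  obtain ⟨U, n, hx, hn, hp⟩ := ha x
  refine ⟨U, n, hx, hn, ?_⟩
  rw [MonObj.comp_mul, MonObj.comp_mul, GrpObj.comp_inv]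
  conv_lhs => arg 1; arg 2; rw [← inv_inv (inclU U ≫ y)]
  rw [conj_pow, hp, _root_.mul_one, mul_inv_cancel]

end Basic

variable {S₀ : Scheme.{u}} (σ : S₀ ⟶ S) {G : Over S} [GrpObj G]

theorem map_inv' {X : Over S} (a : X ⟶ G) :
    (Over.pullback σ).map a⁻¹ = ((Over.pullback σ).map a)⁻¹ :=
  map_inv (Over.pullback σ).homMonoidHom a

theorem map_pow' {X : Over S} (a : X ⟶ G) (n : ℕ) :
    (Over.pullback σ).map (a ^ n) = ((Over.pullback σ).map a) ^ n :=
  map_pow (Over.pullback σ).homMonoidHom a n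

theorem ne_zero_map {s₀ : S₀} {n : ℕ} (h : (n : S₀.residueField s₀) ≠ 0) : (n : S.residueField (σ s₀)) ≠ 0 := by
  intro h0
  have := congrArg (σ.residueFieldMap s₀).hom h0
  rw [map_natCast, map_zero] at this
  exact h this

theorem hom_apply {X : Over S} (x₀ : ((Over.pullback σ).obj X).left) :
    σ (((Over.pullback σ).obj X).hom x₀) = X.hom (pullback.fst X.hom σ x₀) := by
  show σ (pullback.snd X.hom σ x₀) = _
  rw [← Scheme.Hom.comp_apply, ← pullback.condition, Scheme.Hom.comp_apply]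

theorem mem_En_of_cent_aux [Flat G.hom] [LocallyOfFinitePresentation G.hom] {X₀ : Over S₀}
    {a₀ : X₀ ⟶ (Over.pullback σ).obj G} (hc : Cent a₀) {n : ℕ} {s : S} {K : Type u} [Field K]
    (φ : S.residueField s ⟶ CommRingCat.of K) (ξ : Spec (CommRingCat.of K) ⟶ X₀.left)
    (hφ : Spec.map φ ≫ S.fromSpecResidueField s = (ξ ≫ X₀.hom) ≫ σ)
    (hn : (n : S.residueField s) ≠ 0) (p : Spec (CommRingCat.of K)) :
    pullback.fst G.hom σ (a₀.left (ξ p)) ∈ En G n := by
  let q' := ξ ≫ X₀.hom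
  let q := Spec.map φ ≫ S.fromSpecResidueField s
  have hq : q = q' ≫ σ := hφ
  have hpb : pullback.fst G.hom σ ≫ G.hom = pullback.snd G.hom σ ≫ σ := pullback.condition
  have ha : a₀.left ≫ pullback.snd G.hom σ = X₀.hom := Over.w a₀
  let t : (Over.map q).obj (𝟙_ (Over (Spec (CommRingCat.of K)))) ⟶ G :=
    Over.homMk (ξ ≫ a₀.left ≫ pullback.fst G.hom σ) (by
      show (ξ ≫ a₀.left ≫ pullback.fst G.hom σ) ≫ G.hom = 𝟙 _ ≫ q
      rw [Category.id_comp, hq, Category.assoc, Category.assoc, hpb, reassoc_of% ha]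
      simp only [q', Category.assoc])
  have h := mem_En (G := G) (n := n) φ hn t (fun Y y => ?_)
    p
  · exact h
  · let r : (Over.map q').obj Y ⟶ X₀ := Over.homMk (Y.hom ≫ ξ) (by
      show (Y.hom ≫ ξ) ≫ X₀.hom = Y.hom ≫ q'
      rw [Category.assoc])
    let y₀ : (Over.map q').obj Y ⟶ (Over.pullback σ).obj G :=
      Over.homMk (pullback.lift y.left (Y.hom ≫ q') (by
        rw [Category.assoc, ← hq]
        exact Over.w y)) (pullback.lift_snd _ _ _)
    let e : (Over.map q).obj Y ⟶ (Over.map σ).obj ((Over.map q').obj Y) := Over.homMk (𝟙 _) (by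
      show 𝟙 _ ≫ ((Y.hom ≫ q') ≫ σ) = Y.hom ≫ q
      rw [Category.id_comp, Category.assoc, hq])
    have h1 := congrArg (fun k => e ≫ DSPtsLib.theta σ k) (hc _ r y₀)
    simp only [DSPtsLib.theta_mul, MonObj.comp_mul] at h1
    have e1 : e ≫ DSPtsLib.theta σ y₀ = y := by
      refine Over.OverMorphism.ext ?_
      rw [Over.comp_left, DSPtsLib.theta_left]
      exact (Category.id_comp _).trans (pullback.lift_fst _ _ _)
    have e2 : e ≫ DSPtsLib.theta σ (r ≫ a₀) = (Over.map q).map (toUnit Y) ≫ t := by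
      refine Over.OverMorphism.ext ?_
      rw [Over.comp_left, Over.comp_left, DSPtsLib.theta_left, Over.comp_left]
      show 𝟙 _ ≫ ((Y.hom ≫ ξ) ≫ a₀.left) ≫ pullback.fst G.hom σ =
        (toUnit Y).left ≫ ξ ≫ a₀.left ≫ pullback.fst G.hom σ
      rw [show (toUnit Y).left = Y.hom by simp, Category.id_comp, Category.assoc, Category.assoc]
    rw [e1, e2] at h1
    exact h1

/-- The image of a point of a central morphism lies in the étale locus of the power map. -/
theorem mem_En_of_cent [Flat G.hom] [LocallyOfFinitePresentation G.hom] {X₀ : Over S₀}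
    {a₀ : X₀ ⟶ (Over.pullback σ).obj G} (hc : Cent a₀) {n : ℕ} (x₀ : X₀.left)
    (hn : (n : S.residueField (σ (X₀.hom x₀))) ≠ 0) :
    pullback.fst G.hom σ (a₀.left x₀) ∈ En G n := by
  have hφ : Spec.map (σ.residueFieldMap (X₀.hom x₀) ≫ X₀.hom.residueFieldMap x₀) ≫
      S.fromSpecResidueField (σ (X₀.hom x₀)) = (X₀.left.fromSpecResidueField x₀ ≫ X₀.hom) ≫ σ := by
    simp only [Spec.map_comp, Category.assoc]
    rw [Scheme.Hom.SpecMap_residueFieldMap_fromSpecResidueField,
      Scheme.Hom.SpecMap_residueFieldMap_fromSpecResidueField_assoc]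
  have h := mem_En_of_cent_aux σ (K := X₀.left.residueField x₀) hc _ (X₀.left.fromSpecResidueField x₀) hφ hn
    (IsLocalRing.closedPoint (X₀.left.residueField x₀))
  erw [Scheme.fromSpecResidueField_apply] at h
  exact h

variable [Flat G.hom] [LocallyOfFinitePresentation G.hom]

/-- Killed morphisms with the same central restriction are equal. -/
theorem Kill.ext [Surjective σ] {X : Over S} {a b : X ⟶ G} (ha : Kill a) (hb : Kill b)
    (h : (Over.pullback σ).map a = (Over.pullback σ).map b) (hc : Cent ((Over.pullback σ).map a)) : a = b := by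
  choose U n hx hn hpa hpb using exists_common ha hb
  have hU : ∀ x, inclU (U x) ≫ a = inclU (U x) ≫ b := by
    intro x
    have hr : ∀ (c : X ⟶ G), (Over.pullback σ).map a = (Over.pullback σ).map c →
        ∀ w, (inclU (U x) ≫ c).left w ∈ En G (n x) := by
      intro c hac w
      obtain ⟨w₀, rfl⟩ := exists_point σ _ w
      rw [← Scheme.Hom.comp_apply, ← map_left_fst, Scheme.Hom.comp_apply, Functor.map_comp, ← hac]
      refine mem_En_of_cent σ (hc.precomp _) w₀ ?_
      rw [hom_apply]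
      exact hn x ((U x).ι _) (Subtype.mem _)
    obtain ⟨a', ha'⟩ := exists_factor (inclU (U x) ≫ a) (hpa x) (hr a rfl)
    obtain ⟨b', hb'⟩ := exists_factor (inclU (U x) ≫ b) (hpb x) (hr b h)
    have : a' = b' := by
      refine ext_of_etale σ _ _ ?_
      rw [← cancel_mono ((Over.pullback σ).map (tnIncl G (n x))), ← Functor.map_comp, ← Functor.map_comp, ha', hb',
        Functor.map_comp, Functor.map_comp, h]
    rw [← ha', ← hb', this]
  refine Over.OverMorphism.ext ((X.left.openCoverOfIsOpenCover U ?_).hom_ext _ _ fun x => ?_)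
  · exact eq_top_iff.mpr fun w _ => TopologicalSpace.Opens.mem_iSup.mpr ⟨w, hx w⟩
  · exact congrArg CategoryTheory.Over.Hom.left (hU x)

/-- A killed morphism with central restriction is central. -/
theorem Kill.cent [Surjective σ] {X : Over S} {a : X ⟶ G} (ha : Kill a) (hc : Cent ((Over.pullback σ).map a)) :
    Cent a := by
  intro Y q y
  have hk : Kill (q ≫ a) := ha.precomp q
  have hm : Cent ((Over.pullback σ).map (q ≫ a)) := by rw [Functor.map_comp]; exact hc.precomp _
  have h : y⁻¹ * (q ≫ a) * y = q ≫ a := by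
    refine (Kill.ext σ hk (hk.conj y) ?_ hm).symm
    rw [Functor.map_mul, Functor.map_mul, map_inv', _root_.mul_assoc,
      hm.commute ((Over.pullback σ).map y), inv_mul_cancel_left]
  calc (q ≫ a) * y = y * (y⁻¹ * (q ≫ a) * y) := by rw [_root_.mul_assoc y⁻¹, mul_inv_cancel_left]
    _ = y * (q ≫ a) := by rw [h]

/-- A killed central morphism on the closed subscheme lifts. -/
theorem exists_lift_kill [IsClosedImmersion σ] [Surjective σ] {X : Over S} [Etale X.hom]
    {a₀ : (Over.pullback σ).obj X ⟶ (Over.pullback σ).obj G} (hc : Cent a₀) (hk : Kill a₀) :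
    ∃ a : X ⟶ G, (Over.pullback σ).map a = a₀ ∧ Kill a := by
  haveI : IsClosedImmersion (pullback.fst X.hom σ) :=
    MorphismProperty.pullback_fst (P := @IsClosedImmersion) _ _ ‹_›
  have hloc : ∀ x : X.left, ∃ (U : X.left.Opens) (n : ℕ) (c : Over.mk (U.ι ≫ X.hom) ⟶ G), x ∈ U ∧
      (∀ w ∈ U, (n : S.residueField (X.hom w)) ≠ 0) ∧ c ^ n = 1 ∧
      (Over.pullback σ).map c = (Over.pullback σ).map (inclU U) ≫ a₀ := by
    intro x
    obtain ⟨x₀, hx₀⟩ := exists_point σ X x
    obtain ⟨U₀, n, hxU, hn, hp⟩ := hk x₀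
    have hemb := (pullback.fst X.hom σ).isClosedEmbedding
    have hcl : IsClosed (pullback.fst X.hom σ '' U₀.carrierᶜ) :=
      hemb.isClosedMap _ (isClosed_compl_iff.mpr U₀.isOpen)
    let U : X.left.Opens := ⟨(pullback.fst X.hom σ '' U₀.carrierᶜ)ᶜ, hcl.isOpen_compl⟩
    have hUmem : ∀ z, pullback.fst X.hom σ z ∈ U ↔ z ∈ U₀ := fun z => by
      show ¬ _ ↔ _
      rw [hemb.injective.mem_set_image]
      exact not_not
    have hnU : ∀ w ∈ U, (n : S.residueField (X.hom w)) ≠ 0 := by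
      intro w hw
      obtain ⟨w₀, rfl⟩ := exists_point σ X w
      rw [← hom_apply]
      exact ne_zero_map σ (hn w₀ ((hUmem w₀).mp hw))
    haveI : Etale (Over.mk (U.ι ≫ X.hom)).hom := inferInstanceAs (Etale (U.ι ≫ X.hom))
    let m := (Over.pullback σ).map (inclU U)
    have hm : Set.range m.left ⊆ Set.range U₀.ι := by
      rw [Scheme.Opens.range_ι]
      rintro _ ⟨z, rfl⟩
      refine (hUmem _).mp ?_
      rw [← Scheme.Hom.comp_apply, map_left_fst]
      exact Subtype.mem _
    let r : (Over.pullback σ).obj (Over.mk (U.ι ≫ X.hom)) ⟶ Over.mk (U₀.ι ≫ ((Over.pullback σ).obj X).hom) :=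
      Over.homMk (IsOpenImmersion.lift U₀.ι m.left hm) (by
        show IsOpenImmersion.lift U₀.ι m.left hm ≫ U₀.ι ≫ _ = _
        rw [IsOpenImmersion.lift_fac_assoc]
        exact Over.w m)
    have hr : r ≫ inclU U₀ = m := Over.OverMorphism.ext (IsOpenImmersion.lift_fac _ _ _)
    have hcn : (m ≫ a₀) ^ n = 1 := by
      rw [← hr, Category.assoc, ← MonObj.comp_pow, hp, MonObj.comp_one]
    have hfn : (DSPtsLib.theta σ (m ≫ a₀)) ^ n = 1 :=
      ((map_pow (MonoidHom.mk' (DSPtsLib.theta σ) (DSPtsLib.theta_mul σ)) (m ≫ a₀) n).symm.trans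
        (congrArg _ hcn)).trans (map_one _)
    have hfr : ∀ z, (DSPtsLib.theta σ (m ≫ a₀)).left z ∈ En G n := by
      intro z
      rw [DSPtsLib.theta_left, Scheme.Hom.comp_apply]
      refine mem_En_of_cent σ (hc.precomp m) z ?_
      rw [hom_apply]
      exact hnU (U.ι _) (Subtype.mem _)
    obtain ⟨f', hf'⟩ := exists_factor _ hfn hfr
    obtain ⟨c₀, rfl⟩ := (DSPtsLib.theta_bijective (H := Tn G n) σ).2 f'
    have hcc : c₀ ≫ (Over.pullback σ).map (tnIncl G n) = m ≫ a₀ := by
      refine (DSPtsLib.theta_bijective σ).1 ?_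
      rw [← hf']
      refine Over.OverMorphism.ext ?_
      rw [DSPtsLib.theta_left, Over.comp_left, Category.assoc, map_left_fst, Over.comp_left, DSPtsLib.theta_left,
        Category.assoc]
    obtain ⟨c, hc'⟩ := exists_lift σ c₀
    refine ⟨U, n, c ≫ tnIncl G n, ?_, hnU, ?_, ?_⟩
    · rw [← hx₀]
      exact (hUmem x₀).mpr hxU
    · rw [show tnIncl G n = 𝟙 _ ≫ tnIncl G n from (Category.id_comp _).symm, ← MonObj.comp_pow]
      suffices (tnIncl G n) ^ n = 1 by rw [Category.id_comp, this, MonObj.comp_one]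
      refine Over.OverMorphism.ext ?_
      rw [← Category.comp_id (tnIncl G n), ← MonObj.comp_pow]
      show (pullback.fst _ _ ≫ (En G n).ι) ≫ (𝟙 G ^ n : G ⟶ G).left = _
      rw [Category.assoc, pullback.condition, Hom.one_def, Over.comp_left]
      simp
      rfl
    · rw [Functor.map_comp, hc', hcc]
  choose U n c hx hn hp hc' using hloc
  have hkc : ∀ x, Kill (c x) := fun x =>
    kill_of_pow (fun w => hn x ((U x).ι w) (Subtype.mem _)) (hp x)
  have hcov : TopologicalSpace.IsOpenCover U :=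
    eq_top_iff.mpr fun w _ => TopologicalSpace.Opens.mem_iSup.mpr ⟨w, hx w⟩
  let 𝒰 := X.left.openCoverOfIsOpenCover U hcov
  have hcompat : ∀ x y, pullback.fst (U x).ι (U y).ι ≫ (c x).left = pullback.snd (U x).ι (U y).ι ≫ (c y).left := by
    intro x y
    let P : Over S := Over.mk (pullback.fst (U x).ι (U y).ι ≫ (U x).ι ≫ X.hom)
    let p₁ : P ⟶ Over.mk ((U x).ι ≫ X.hom) := Over.homMk (pullback.fst _ _) rfl
    let p₂ : P ⟶ Over.mk ((U y).ι ≫ X.hom) := Over.homMk (pullback.snd _ _) (by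
      show pullback.snd _ _ ≫ (U y).ι ≫ X.hom = pullback.fst _ _ ≫ (U x).ι ≫ X.hom
      rw [pullback.condition_assoc])
    have he : p₁ ≫ inclU (U x) = p₂ ≫ inclU (U y) := Over.OverMorphism.ext pullback.condition
    refine congrArg CategoryTheory.Over.Hom.left (Kill.ext σ ((hkc x).precomp p₁) ((hkc y).precomp p₂) ?_ ?_)
    · rw [Functor.map_comp, Functor.map_comp, hc', hc', ← Category.assoc, ← Category.assoc, ← Functor.map_comp,
        ← Functor.map_comp, he]
    · rw [Functor.map_comp, hc', ← Category.assoc]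
      exact hc.precomp _
  let A : X.left ⟶ G.left := 𝒰.glueMorphisms (fun x => (c x).left) hcompat
  have hA : ∀ x, (U x).ι ≫ A = (c x).left := fun x => 𝒰.ι_glueMorphisms _ hcompat x
  let a : X ⟶ G := Over.homMk A (𝒰.hom_ext _ _ fun x => by
    show (U x).ι ≫ A ≫ G.hom = (U x).ι ≫ X.hom
    rw [reassoc_of% (hA x)]
    exact Over.w (c x))
  have ha : ∀ x, inclU (U x) ≫ a = c x := fun x => Over.OverMorphism.ext (hA x)
  refine ⟨a, ?_, fun x => ⟨U x, n x, hx x, hn x, by rw [ha, hp]⟩⟩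
  refine Over.OverMorphism.ext (Scheme.Cover.hom_ext (𝒰.pullback₁ (pullback.fst X.hom σ)) _ _ fun x => ?_)
  show pullback.fst (pullback.fst X.hom σ) (U x).ι ≫ ((Over.pullback σ).map a).left =
    pullback.fst (pullback.fst X.hom σ) (U x).ι ≫ a₀.left
  let P : Over S₀ := Over.mk (pullback.fst (pullback.fst X.hom σ) (U x).ι ≫ pullback.snd X.hom σ)
  let j : P ⟶ (Over.pullback σ).obj X := Over.homMk (pullback.fst (pullback.fst X.hom σ) (U x).ι) rfl
  let p : P ⟶ (Over.pullback σ).obj (Over.mk ((U x).ι ≫ X.hom)) :=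
    Over.homMk (pullback.lift (pullback.snd (pullback.fst X.hom σ) (U x).ι) P.hom (by
      show pullback.snd _ _ ≫ (U x).ι ≫ X.hom = (pullback.fst _ _ ≫ pullback.snd X.hom σ) ≫ σ
      rw [← pullback.condition_assoc, Category.assoc, ← pullback.condition])) (pullback.lift_snd _ _ _)
  have hj : p ≫ (Over.pullback σ).map (inclU (U x)) = j := by
    refine Over.OverMorphism.ext (pullback.hom_ext ?_ ?_)
    · rw [Over.comp_left, Category.assoc, map_left_fst]
      exact (pullback.lift_fst_assoc _ _ _ _).trans pullback.condition.symm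
    · exact Over.w (p ≫ (Over.pullback σ).map (inclU (U x)))
  have h : j ≫ (Over.pullback σ).map a = j ≫ a₀ := by
    rw [← hj, Category.assoc, Category.assoc, ← Functor.map_comp, ha, hc']
  exact congrArg CategoryTheory.Over.Hom.left h

end Groth.Agent.Deform.CentralLift
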