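import Groth.Agent.Deform.CentralLift.Main
import Groth.Agent.Deform.Complete
import Groth.Agent.GrpSchLib.FibreIrr

/-! Central homomorphisms from finite étale groups of multiplicative type over complete local rings. -/

set_option autoImplicit false
set_option linter.style.haveILetI false
set_option linter.unusedSectionVars false

universe u

open CategoryTheory CategoryTheory.Limits MonoidalCategory CartesianMonoidalCategory MonObj GrpObj AlgebraicGeometry
open SGA3x

attribute [local instance] CategoryTheory.Hom.monoid CategoryTheory.Hom.group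

namespace Groth.Agent.Deform.CentralLift

theorem eq_of_fromField {K L : Type u} [Field K] [Field L] {X : Scheme.{u}}
    (r : Spec (CommRingCat.of L) ⟶ Spec (CommRingCat.of K)) (f g : Spec (CommRingCat.of K) ⟶ X)
    (h : r ≫ f = r ≫ g) : f = g := by
  obtain ⟨V, hV, hfV, -⟩ := exists_isAffineOpen_mem_and_subset
    (show f (IsLocalRing.closedPoint K) ∈ (⊤ : X.Opens) from trivial)
  have hpt : ∀ p : Spec (CommRingCat.of K), f p ∈ V ∧ g p ∈ V := by
    intro p
    have hr : r (IsLocalRing.closedPoint L) = p := Subsingleton.elim (α := PrimeSpectrum K) _ _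
    have e : f p = g p := by
      rw [← hr, ← Scheme.Hom.comp_apply, h, Scheme.Hom.comp_apply]
    have hf : f p ∈ V := by
      rw [show p = IsLocalRing.closedPoint K from Subsingleton.elim (α := PrimeSpectrum K) _ _]
      exact hfV
    exact ⟨hf, e ▸ hf⟩
  have hf' : Set.range f ⊆ Set.range hV.fromSpec := by
    rw [hV.range_fromSpec]; rintro _ ⟨p, rfl⟩; exact (hpt p).1
  have hg' : Set.range g ⊆ Set.range hV.fromSpec := by
    rw [hV.range_fromSpec]; rintro _ ⟨p, rfl⟩; exact (hpt p).2
  suffices IsOpenImmersion.lift hV.fromSpec f hf' = IsOpenImmersion.lift hV.fromSpec g hg' by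
    rw [← IsOpenImmersion.lift_fac hV.fromSpec f hf', this, IsOpenImmersion.lift_fac]
  have h' : r ≫ IsOpenImmersion.lift hV.fromSpec f hf' = r ≫ IsOpenImmersion.lift hV.fromSpec g hg' := by
    rw [← cancel_mono hV.fromSpec, Category.assoc, Category.assoc, IsOpenImmersion.lift_fac,
      IsOpenImmersion.lift_fac, h]
  obtain ⟨φ, hφ⟩ := Spec.map_surjective (IsOpenImmersion.lift hV.fromSpec f hf')
  obtain ⟨ψ, hψ⟩ := Spec.map_surjective (IsOpenImmersion.lift hV.fromSpec g hg')
  obtain ⟨ρ, hρ⟩ := Spec.map_surjective r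
  rw [← hφ, ← hψ, ← hρ, ← Spec.map_comp, ← Spec.map_comp] at h'
  rw [← hφ, ← hψ]
  refine congrArg Spec.map (CommRingCat.hom_ext (RingHom.ext fun a => ρ.hom.injective ?_))
  exact congrArg (fun k => k.hom a) (Spec.map_injective h')

variable {S : Scheme.{u}}

theorem exists_lift_inclU {X Y : Over S} (h : Y ⟶ X) (U : X.left.Opens) (hU : ∀ y, h.left y ∈ U) :
    ∃ h' : Y ⟶ Over.mk (U.ι ≫ X.hom), h' ≫ inclU U = h := by
  have hr : Set.range h.left ⊆ Set.range U.ι := by
    rw [Scheme.Opens.range_ι]; rintro _ ⟨y, rfl⟩; exact hU y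
  refine ⟨Over.homMk (IsOpenImmersion.lift U.ι h.left hr) ?_, Over.OverMorphism.ext (IsOpenImmersion.lift_fac _ _ _)⟩
  show IsOpenImmersion.lift U.ι h.left hr ≫ U.ι ≫ X.hom = Y.hom
  rw [IsOpenImmersion.lift_fac_assoc]
  exact Over.w h

variable {S₀ : Scheme.{u}} (σ : S₀ ⟶ S) {G : Over S} [GrpObj G] [Flat G.hom] [LocallyOfFinitePresentation G.hom]

/-- Torsion maps with the same central restriction agree on an open containing the restricted part. -/
theorem exists_open_agree {n : ℕ} (hn : ∀ s : S, (n : S.residueField s) ≠ 0) {X : Over S} (a b : X ⟶ G)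
    (ha : a ^ n = 1) (hb : b ^ n = 1) (hab : (Over.pullback σ).map a = (Over.pullback σ).map b)
    (hc : Cent ((Over.pullback σ).map a)) :
    ∃ W : X.left.Opens, (∀ z, pullback.fst X.hom σ z ∈ W) ∧
      (∀ z ∈ W, b.left z ∈ En G n) ∧
      ∀ (Y : Over S) (h : Y ⟶ X), (∀ y, h.left y ∈ W) → h ≫ a = h ≫ b := by
  let V : X.left.Opens := a.left ⁻¹ᵁ En G n ⊓ b.left ⁻¹ᵁ En G n
  have hV : ∀ z, pullback.fst X.hom σ z ∈ V := by
    intro z
    have h1 := mem_En_of_cent σ hc (n := n) z (hn _)
    refine ⟨?_, ?_⟩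
    · show a.left (pullback.fst X.hom σ z) ∈ En G n
      rw [← Scheme.Hom.comp_apply, ← map_left_fst, Scheme.Hom.comp_apply]
      exact h1
    · show b.left (pullback.fst X.hom σ z) ∈ En G n
      rw [← Scheme.Hom.comp_apply, ← map_left_fst, Scheme.Hom.comp_apply, ← hab]
      exact h1
  obtain ⟨a', ha'⟩ := exists_factor (inclU V ≫ a) (by rw [← MonObj.comp_pow, ha, MonObj.comp_one])
    fun v => (Subtype.mem v : V.ι v ∈ V).1
  obtain ⟨b', hb'⟩ := exists_factor (inclU V ≫ b) (by rw [← MonObj.comp_pow, hb, MonObj.comp_one])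
    fun v => (Subtype.mem v : V.ι v ∈ V).2
  have hab' : (Over.pullback σ).map a' = (Over.pullback σ).map b' := by
    rw [← cancel_mono ((Over.pullback σ).map (tnIncl G n)), ← Functor.map_comp, ← Functor.map_comp, ha', hb',
      Functor.map_comp, Functor.map_comp, hab]
  obtain ⟨U, hU, hUe⟩ := exists_eq_on a' b' (pullback.fst (Over.mk (V.ι ≫ X.hom)).hom σ) (by
    rw [← map_left_fst, ← map_left_fst, hab'])
  refine ⟨V.ι ''ᵁ U, fun z => ?_, fun z hz => ?_, fun Y h hh => ?_⟩
  · let z' : ↥(pullback (V.ι ≫ X.hom) σ) := by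
      refine (Scheme.Pullback.exists_preimage_pullback (f := V.ι ≫ X.hom) (g := σ) ⟨_, hV z⟩
        (pullback.snd X.hom σ z) ?_).choose
      show X.hom (pullback.fst X.hom σ z) = σ (pullback.snd X.hom σ z)
      rw [← Scheme.Hom.comp_apply, pullback.condition, Scheme.Hom.comp_apply]
    exact ⟨pullback.fst _ σ z', hU z', by
      have := (Scheme.Pullback.exists_preimage_pullback (f := V.ι ≫ X.hom) (g := σ) ⟨_, hV z⟩
        (pullback.snd X.hom σ z) (by
          show X.hom (pullback.fst X.hom σ z) = σ (pullback.snd X.hom σ z)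
          rw [← Scheme.Hom.comp_apply, pullback.condition, Scheme.Hom.comp_apply])).choose_spec.1
      exact congrArg V.ι this⟩
  · obtain ⟨w, -, rfl⟩ := hz
    exact (Subtype.mem w : V.ι w ∈ V).2
  · obtain ⟨h', rfl⟩ := exists_lift_inclU h V fun y => by
      obtain ⟨w, -, hw⟩ := hh y
      exact hw ▸ Subtype.mem w
    have hr : ∀ y, h'.left y ∈ U := fun y => by
      obtain ⟨w, hw, hw'⟩ := hh y
      exact V.ι.isOpenEmbedding.injective hw' ▸ hw
    obtain ⟨h'', rfl⟩ := exists_lift_inclU h' U hr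
    have e : inclU U ≫ inclU V ≫ a = inclU U ≫ inclU V ≫ b := by
      rw [← ha', ← hb', reassoc_of% hUe]
    simp only [Category.assoc]
    rw [e]

variable {A : Type u} [CommRing A] [IsLocalRing A]

/-- An open of a finite scheme over a local ring containing the closed fibre is everything. -/
theorem eq_top_of_finite {X : Scheme.{u}} (f : X ⟶ Spec (CommRingCat.of A)) [IsFinite f] (U : X.Opens)
    (h : ∀ x, f x = IsLocalRing.closedPoint A → x ∈ U) : U = ⊤ := by
  refine eq_top_iff.mpr fun x _ => ?_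
  by_contra hx
  have hcl : IsClosed (f '' closure {x}) := f.isClosedMap _ isClosed_closure
  have hs : f x ⤳ IsLocalRing.closedPoint A := IsLocalRing.specializes_closedPoint (f x)
  obtain ⟨y, hy, hfy⟩ := hs.mem_closed hcl ⟨x, subset_closure rfl, rfl⟩
  exact hx ((specializes_iff_mem_closure.mpr hy).mem_open U.2 (h y hfy))

theorem mem_range_fst_closed {X : Over (Spec (CommRingCat.of A))} (x : X.left)
    (hx : X.hom x = IsLocalRing.closedPoint A) :
    ∃ z, pullback.fst X.hom (Spec.map (CommRingCat.ofHom (Ideal.Quotient.mk (IsLocalRing.maximalIdeal A)))) z = x := by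
  show x ∈ Set.range _
  rw [Scheme.Pullback.range_fst]
  show X.hom x ∈ Set.range _
  rw [hx]
  refine ⟨IsLocalRing.closedPoint (A ⧸ IsLocalRing.maximalIdeal A), ?_⟩
  haveI : IsLocalHom (Ideal.Quotient.mk (IsLocalRing.maximalIdeal A)) :=
    IsLocalHom.of_surjective _ Ideal.Quotient.mk_surjective
  exact IsLocalRing.comap_closedPoint (Ideal.Quotient.mk (IsLocalRing.maximalIdeal A))

theorem ne_zero_everywhere {n : ℕ}
    (h : (n : (Spec (CommRingCat.of A)).residueField (IsLocalRing.closedPoint A)) ≠ 0) (s : Spec (CommRingCat.of A)) :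
    (n : (Spec (CommRingCat.of A)).residueField s) ≠ 0 := by
  let S := Spec (CommRingCat.of A)
  have hB : ∀ t : S, t ∈ S.basicOpen (n : Γ(S, ⊤)) ↔ (n : S.residueField t) ≠ 0 := fun t => by
    rw [← Scheme.evaluation_ne_zero_iff_mem_basicOpen (U := ⊤) S t trivial, map_natCast]
  exact (hB s).mp ((IsLocalRing.specializes_closedPoint s).mem_open (S.basicOpen _).2 ((hB _).mpr h))

/-- On a finite scheme over a local ring a locally killed map is killed by one integer. -/
theorem exists_global_kill {G X : Over (Spec (CommRingCat.of A))} [GrpObj G] [IsFinite X.hom] {a : X ⟶ G}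
    (ha : Kill a) :
    ∃ n : ℕ, (∀ s : Spec (CommRingCat.of A), (n : (Spec (CommRingCat.of A)).residueField s) ≠ 0) ∧ a ^ n = 1 := by
  classical
  haveI : CompactSpace X.left := QuasiCompact.compactSpace_of_compactSpace X.hom
  choose U m hx hm hp using ha
  let F : Set X.left := {x | X.hom x = IsLocalRing.closedPoint A}
  have htop : (⨆ x : F, U x.1) = ⊤ :=
    eq_top_of_finite X.hom _ fun x hxF => TopologicalSpace.Opens.mem_iSup.mpr ⟨⟨x, hxF⟩, hx x⟩
  obtain ⟨t, ht⟩ := isCompact_univ.elim_finite_subcover (fun x : F => (U x.1 : Set X.left)) (fun x => (U x.1).2)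
    fun w _ => by
      obtain ⟨i, hi⟩ := TopologicalSpace.Opens.mem_iSup.mp ((htop.symm ▸ trivial : w ∈ ⨆ x : F, U x.1))
      exact Set.mem_iUnion.mpr ⟨i, hi⟩
  let V : t → X.left.Opens := fun i => U i.1.1
  have hcov : TopologicalSpace.IsOpenCover V := eq_top_iff.mpr fun w _ => by
    obtain ⟨i, hi, hw⟩ := Set.mem_iUnion₂.mp (ht (Set.mem_univ w))
    exact TopologicalSpace.Opens.mem_iSup.mpr ⟨⟨i, hi⟩, hw⟩
  refine ⟨t.prod fun i => m i.1, ne_zero_everywhere ?_, ?_⟩
  · rw [Nat.cast_prod]
    refine Finset.prod_ne_zero_iff.mpr fun i _ => ?_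
    obtain ⟨x, hxF⟩ := i
    have h := hm x x (hx x)
    rw [show X.hom x = IsLocalRing.closedPoint A from hxF] at h
    exact h
  · refine Over.OverMorphism.ext ((X.left.openCoverOfIsOpenCover V hcov).hom_ext _ _ fun i => ?_)
    have h1 : inclU (V i) ≫ a ^ (t.prod fun i => m i.1) = inclU (V i) ≫ 1 := by
      obtain ⟨k, hk⟩ : m i.1.1 ∣ t.prod fun i => m i.1 := Finset.dvd_prod_of_mem (fun i : F => m i.1) i.2
      rw [MonObj.comp_pow, hk, pow_mul, hp, one_pow, MonObj.comp_one]
    exact congrArg CategoryTheory.Over.Hom.left h1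

end Groth.Agent.Deform.CentralLift
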