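import Groth.Agent.Deform.CentralLift.LocalMain

/-! Centrality of lifted torsion homomorphisms when the fibres are connected. -/

set_option autoImplicit false
set_option linter.style.haveILetI false
set_option linter.unusedSectionVars false

universe u

open CategoryTheory CategoryTheory.Limits MonoidalCategory CartesianMonoidalCategory MonObj GrpObj AlgebraicGeometry
open SGA3x
open scoped CategoryTheory.Obj

attribute [local instance] CategoryTheory.Hom.monoid CategoryTheory.Hom.group

namespace Groth.Agent.Deform.CentralLift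

variable {A : Type u} [CommRing A] [IsLocalRing A] {G : Over (Spec (CommRingCat.of A))} [GrpObj G] [Flat G.hom]
  [LocallyOfFinitePresentation G.hom]

local notation "σ₀" => Spec.map (CommRingCat.ofHom (Ideal.Quotient.mk (IsLocalRing.maximalIdeal A)))

set_option maxHeartbeats 1000000 in
/-- A torsion map with central closed fibre is central when the fibres of the group are connected. -/
theorem cent_of_connected
    (hconn : ∀ s : (Spec (CommRingCat.of A)), _root_.IsConnected (G.hom.base ⁻¹' {s}))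
    {n : ℕ} (hn : ∀ s : Spec (CommRingCat.of A), (n : (Spec (CommRingCat.of A)).residueField s) ≠ 0)
    {M : Over (Spec (CommRingCat.of A))} [IsFinite M.hom] (u : M ⟶ G) (hu : u ^ n = 1)
    (hc : Cent ((Over.pullback σ₀).map u)) : Cent u := by
  let a : G ⊗ M ⟶ G := fst G M * (snd G M ≫ u) * (fst G M)⁻¹
  let b : G ⊗ M ⟶ G := snd G M ≫ u
  have hb : b ^ n = 1 := by simp only [b]; rw [← MonObj.comp_pow, hu, MonObj.comp_one]
  have ha : a ^ n = 1 := by
    simp only [a]
    rw [conj_pow, ← MonObj.comp_pow, hu, MonObj.comp_one, _root_.mul_one, mul_inv_cancel]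
  have hmap : (Over.pullback σ₀).map a = (Over.pullback σ₀).map b := by
    simp only [a, b]
    rw [Functor.map_mul, Functor.map_mul, map_inv', Functor.map_comp,
      ← (hc.precomp _).commute _, mul_inv_cancel_right]
  have hca : Cent ((Over.pullback σ₀).map a) := by
    rw [hmap]
    simp only [b]
    rw [Functor.map_comp]
    exact hc.precomp _
  have huEn : ∀ x, u.left x ∈ En G n := (eq_of_finite hn u u hu hu rfl hc).2
  obtain ⟨W, hW, -, hWe⟩ := exists_open_agree σ₀ hn a b ha hb hmap hca
  let e : M ⟶ G ⊗ M := lift 1 (𝟙 M)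
  have he : ∀ x, e.left x ∈ W := by
    have htop : e.left ⁻¹ᵁ W = ⊤ := eq_top_of_finite M.hom _ fun x hx => by
      obtain ⟨z, rfl⟩ := mem_range_fst_closed x hx
      show e.left (pullback.fst M.hom σ₀ z) ∈ W
      rw [← Scheme.Hom.comp_apply, ← map_left_fst, Scheme.Hom.comp_apply]
      exact hW _
    intro x
    exact (htop.symm ▸ trivial : x ∈ e.left ⁻¹ᵁ W)
  have hpt : ∀ z : (G ⊗ M).left, ∃ (T : Over (Spec (CommRingCat.of A))) (w : T ⟶ G ⊗ M),
      z ∈ Set.range w.left ∧ w ≫ a = w ≫ b := by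
    intro z
    let X : Over (Spec (CommRingCat.of A)) := G ⊗ M
    let t : Spec (X.left.residueField z) ⟶ Spec (CommRingCat.of A) := X.left.fromSpecResidueField z ≫ X.hom
    let T : Over (Spec (CommRingCat.of A)) := Over.mk t
    let w : T ⟶ G ⊗ M := Over.homMk (X.left.fromSpecResidueField z) rfl
    refine ⟨T, w, ⟨IsLocalRing.closedPoint (X.left.residueField z), Scheme.fromSpecResidueField_apply _ _⟩, ?_⟩
    obtain ⟨hgi, -⟩ := GrpSchLib.FibreIrr.geometricallyIrreducible_fib G (X.hom z) (hconn (X.hom z))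
    haveI hgi' : GeometricallyIrreducible (G.hom.fiberToSpecResidueField (X.hom z)) := hgi
    have ht : t = Spec.map (X.hom.residueFieldMap z) ≫ (Spec (CommRingCat.of A)).fromSpecResidueField (X.hom z) :=
      (Scheme.Hom.SpecMap_residueFieldMap_fromSpecResidueField _ _).symm
    haveI : IrreducibleSpace (G ⊗ T).left := by
      let e : (G ⊗ T).left ≅ pullback (G.hom.fiberToSpecResidueField (X.hom z)) (Spec.map (X.hom.residueFieldMap z)) :=
        pullback.congrHom rfl ht ≪≫
          (pullbackLeftPullbackSndIso G.hom ((Spec (CommRingCat.of A)).fromSpecResidueField (X.hom z)) _).symm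
      haveI : IrreducibleSpace ↥(pullback (G.hom.fiberToSpecResidueField (X.hom z))
          (Spec.map (X.hom.residueFieldMap z))) := GeometricallyIrreducible.geometrically_irreducibleSpace
            _ _ _ (IsPullback.of_hasPullback _ _)
      rw [irreducibleSpace_def, Set.top_eq_univ,
        ← (Set.range_eq_univ.mpr e.inv.homeomorph.surjective : Set.range e.inv = _), ← Set.image_univ]
      exact (IrreducibleSpace.isIrreducible_univ _).image _ e.inv.continuous.continuousOn
    let g : T ⟶ G := w ≫ fst G M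
    let c : T ⟶ G := w ≫ snd G M ≫ u
    let F : G ⊗ T ⟶ G ⊗ M := lift (fst G T) (snd G T ≫ w ≫ snd G M)
    let φ : G ⊗ T ⟶ G ⊗ T := lift ((fst G T)⁻¹ * (snd G T ≫ g)) (snd G T)
    let e₀ : T ⟶ G ⊗ T := lift 1 (𝟙 T)
    have hFe : e₀ ≫ F = (w ≫ snd G M) ≫ e := by
      simp only [e₀, F, e, comp_lift, Category.comp_id, lift_fst, MonObj.comp_one, lift_snd_assoc, Category.id_comp,
        Category.assoc]
    have he1 : lift g (𝟙 T) ≫ φ = e₀ := by
      simp only [φ, e₀, comp_lift, MonObj.comp_mul, GrpObj.comp_inv, lift_fst, lift_snd, lift_snd_assoc,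
        Category.id_comp, inv_mul_cancel]
    have hU : ((F.left ⁻¹ᵁ W : (G ⊗ T).left.Opens) : Set (G ⊗ T).left).Nonempty := by
      refine ⟨e₀.left (IsLocalRing.closedPoint (X.left.residueField z)), ?_⟩
      show F.left (e₀.left _) ∈ W
      rw [← Scheme.Hom.comp_apply, ← Over.comp_left, hFe, Over.comp_left, Scheme.Hom.comp_apply]
      exact he _
    have hV : (((φ ≫ F).left ⁻¹ᵁ W : (G ⊗ T).left.Opens) : Set (G ⊗ T).left).Nonempty := by
      refine ⟨(lift g (𝟙 T)).left (IsLocalRing.closedPoint (X.left.residueField z)), ?_⟩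
      show (φ ≫ F).left ((lift g (𝟙 T)).left _) ∈ W
      rw [← Scheme.Hom.comp_apply, ← Over.comp_left, ← Category.assoc, he1, hFe, Over.comp_left, Scheme.Hom.comp_apply]
      exact he _
    obtain ⟨p, -, hp1, hp2⟩ := (IrreducibleSpace.isIrreducible_univ (G ⊗ T).left).2 _ _
      (F.left ⁻¹ᵁ W).2 ((φ ≫ F).left ⁻¹ᵁ W).2 (by simpa using hU) (by simpa using hV)
    let T' : Over (Spec (CommRingCat.of A)) := Over.mk ((G ⊗ T).left.fromSpecResidueField p ≫ (G ⊗ T).hom)
    let h : T' ⟶ G ⊗ T := Over.homMk ((G ⊗ T).left.fromSpecResidueField p) rfl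
    have hall : ∀ y, h.left y = p := fun y => Scheme.fromSpecResidueField_apply _ y
    have k1 := hWe T' (h ≫ F) fun y => by
      rw [Over.comp_left, Scheme.Hom.comp_apply, hall]
      exact hp1
    have k2 := hWe T' (h ≫ φ ≫ F) fun y => by
      rw [Over.comp_left, Scheme.Hom.comp_apply, hall]
      exact hp2
    let r : T' ⟶ T := h ≫ snd G T
    let P := h ≫ fst G T
    let B := r ≫ g
    let C := r ≫ c
    have e1 : P * C * P⁻¹ = C := by
      simpa [a, b, F, P, C, r, c, MonObj.comp_mul, GrpObj.comp_inv] using k1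
    have e2 : (P⁻¹ * B) * C * (P⁻¹ * B)⁻¹ = C := by
      simpa [a, b, F, φ, P, B, C, r, c, MonObj.comp_mul, GrpObj.comp_inv] using k2
    have e3 : r ≫ (w ≫ a) = r ≫ (w ≫ b) := by
      have : B * C * B⁻¹ = C := by
        have e4 : B * C * B⁻¹ = P * ((P⁻¹ * B) * C * (P⁻¹ * B)⁻¹) * P⁻¹ := by group
        rw [e4, e2, e1]
      simpa [a, b, B, C, g, c, MonObj.comp_mul, GrpObj.comp_inv] using this
    exact Over.OverMorphism.ext (eq_of_fromField r.left (w ≫ a).left (w ≫ b).left
      (congrArg CategoryTheory.Over.Hom.left e3))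
  have hbEn : ∀ z, b.left z ∈ En G n := fun z => by
    show (snd G M ≫ u).left z ∈ En G n
    rw [Over.comp_left, Scheme.Hom.comp_apply]
    exact huEn _
  have haEn : ∀ z, a.left z ∈ En G n := fun z => by
    obtain ⟨T, w, ⟨y, rfl⟩, hw⟩ := hpt z
    rw [← Scheme.Hom.comp_apply, ← Over.comp_left, hw, Over.comp_left, Scheme.Hom.comp_apply]
    exact hbEn _
  obtain ⟨a', ha'⟩ := exists_factor a ha haEn
  obtain ⟨b', hb'⟩ := exists_factor b hb hbEn
  have hloc : ∀ z : (G ⊗ M).left, ∃ U : (G ⊗ M).left.Opens, z ∈ U ∧ inclU U ≫ a = inclU U ≫ b := by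
    intro z
    obtain ⟨T, w, ⟨y, rfl⟩, hw⟩ := hpt z
    have hw' : w ≫ a' = w ≫ b' := by
      rw [← cancel_mono (tnIncl G n), Category.assoc, Category.assoc, ha', hb', hw]
    obtain ⟨U, hU, hUe⟩ := exists_eq_on a' b' w.left (congrArg CategoryTheory.Over.Hom.left hw')
    exact ⟨U, hU y, by rw [← ha', ← hb', reassoc_of% hUe]⟩
  choose U hzU hUe using hloc
  have hab : a = b := Over.OverMorphism.ext
    (((G ⊗ M).left.openCoverOfIsOpenCover U (eq_top_iff.mpr fun w _ =>
      TopologicalSpace.Opens.mem_iSup.mpr ⟨w, hzU w⟩)).hom_ext _ _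
      fun z => congrArg CategoryTheory.Over.Hom.left (hUe z))
  intro Y q y
  have := congrArg (lift y q ≫ ·) hab
  simp only [a, b, MonObj.comp_mul, GrpObj.comp_inv, lift_fst, lift_snd_assoc] at this
  exact (mul_inv_eq_iff_eq_mul.mp this).symm

end Groth.Agent.Deform.CentralLift
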