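import Groth.Agent.Deform.CentralLift.Local

/-! Lifting of central homomorphisms from finite étale groups over complete local rings. -/

set_option autoImplicit false
set_option linter.style.haveILetI false
set_option linter.unusedSectionVars false

universe u

open CategoryTheory CategoryTheory.Limits MonoidalCategory CartesianMonoidalCategory MonObj GrpObj AlgebraicGeometry
open SGA3x

attribute [local instance] CategoryTheory.Hom.monoid CategoryTheory.Hom.group

namespace Groth.Agent.Deform.CentralLift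

open GrpSchLib.AffineHopf (sp)

variable {A : Type u} [CommRing A] [IsLocalRing A] {G : Over (Spec (CommRingCat.of A))} [GrpObj G] [Flat G.hom]
  [LocallyOfFinitePresentation G.hom]

local notation "σ₀" => Spec.map (CommRingCat.ofHom (Ideal.Quotient.mk (IsLocalRing.maximalIdeal A)))

/-- Torsion maps out of a finite scheme with the same central closed fibre agree. -/
theorem eq_of_finite {n : ℕ} (hn : ∀ s : Spec (CommRingCat.of A), (n : (Spec (CommRingCat.of A)).residueField s) ≠ 0)
    {X : Over (Spec (CommRingCat.of A))} [IsFinite X.hom] (a b : X ⟶ G) (ha : a ^ n = 1) (hb : b ^ n = 1)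
    (hab : (Over.pullback σ₀).map a = (Over.pullback σ₀).map b) (hc : Cent ((Over.pullback σ₀).map a)) :
    a = b ∧ ∀ x, b.left x ∈ En G n := by
  obtain ⟨W, hW, hWb, hWe⟩ := exists_open_agree σ₀ hn a b ha hb hab hc
  have htop : W = ⊤ := eq_top_of_finite X.hom W fun x hx => by
    obtain ⟨z, rfl⟩ := mem_range_fst_closed x hx
    exact hW z
  refine ⟨?_, fun x => hWb x (htop ▸ trivial)⟩
  simpa using hWe X (𝟙 X) fun y => htop ▸ trivial

theorem exists_morphism_closed [IsNoetherianRing A] [IsAdicComplete (IsLocalRing.maximalIdeal A) A]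
    {B : Type u} [CommRing B] [Algebra A B] [Module.Finite A B]
    {T : Over (Spec (CommRingCat.of A))} [Smooth T.hom] :
    ∀ (ψ : Red.bc σ₀ (sp A B) ⟶ Red.bc σ₀ T), ∃ v : sp A B ⟶ T, (Over.pullback σ₀).map v = ψ := by
  have h : IsLocalRing.maximalIdeal A ^ (0 + 1) = IsLocalRing.maximalIdeal A := pow_one _
  have key : ∀ J : Ideal A, J = IsLocalRing.maximalIdeal A ^ (0 + 1) →
      ∀ ψ : Red.bc (bm J) (sp A B) ⟶ Red.bc (bm J) T, ∃ v : sp A B ⟶ T, (Over.pullback (bm J)).map v = ψ := by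
    rintro J rfl ψ
    exact exists_morphism 0 ψ
  exact key _ h.symm

/-- A central torsion map on the closed fibre lifts. -/
theorem exists_torsion_lift [IsNoetherianRing A] [IsAdicComplete (IsLocalRing.maximalIdeal A) A]
    {n : ℕ} (hn : ∀ s : Spec (CommRingCat.of A), (n : (Spec (CommRingCat.of A)).residueField s) ≠ 0)
    {M : Over (Spec (CommRingCat.of A))} [IsFinite M.hom]
    (u₀ : Red.bc σ₀ M ⟶ Red.bc σ₀ G) (hc : Cent u₀) (hu₀ : u₀ ^ n = 1) :
    ∃ u : M ⟶ G, (Over.pullback σ₀).map u = u₀ ∧ u ^ n = 1 := by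
  have hfn : (DSPtsLib.theta σ₀ u₀) ^ n = 1 :=
    ((map_pow (MonoidHom.mk' (DSPtsLib.theta σ₀) (DSPtsLib.theta_mul σ₀)) u₀ n).symm.trans
      (congrArg _ hu₀)).trans (map_one _)
  have hfr : ∀ z, (DSPtsLib.theta σ₀ u₀).left z ∈ En G n := by
    intro z
    rw [DSPtsLib.theta_left, Scheme.Hom.comp_apply]
    exact mem_En_of_cent σ₀ hc z (hn _)
  obtain ⟨f', hf'⟩ := exists_factor _ hfn hfr
  obtain ⟨c₀, rfl⟩ := (DSPtsLib.theta_bijective (H := Tn G n) σ₀).2 f'
  have hcc : c₀ ≫ (Over.pullback σ₀).map (tnIncl G n) = u₀ := by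
    refine (DSPtsLib.theta_bijective σ₀).1 ?_
    rw [← hf']
    refine Over.OverMorphism.ext ?_
    rw [DSPtsLib.theta_left, Over.comp_left, Category.assoc, map_left_fst, Over.comp_left, DSPtsLib.theta_left,
      Category.assoc]
  haveI : IsAffine M.left := isAffine_of_isAffineHom M.hom
  let hom : CommRingCat.of A ⟶ Γ(M.left, ⊤) := Spec.preimage (M.left.isoSpec.inv ≫ M.hom)
  letI : Algebra A Γ(M.left, ⊤) := hom.hom.toAlgebra
  have hhom : Spec.map (CommRingCat.ofHom (algebraMap A Γ(M.left, ⊤))) = M.left.isoSpec.inv ≫ M.hom :=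
    Spec.map_preimage _
  haveI : Module.Finite A Γ(M.left, ⊤) := by
    rw [← RingHom.finite_algebraMap]
    refine (IsFinite.SpecMap_iff (CommRingCat.ofHom (algebraMap A Γ(M.left, ⊤)))).mp ?_
    rw [hhom]
    infer_instance
  let e : sp A Γ(M.left, ⊤) ≅ M := Over.isoMk M.left.isoSpec.symm hhom.symm
  obtain ⟨v, hv⟩ := exists_morphism_closed (T := Tn G n) ((Over.pullback σ₀).map e.hom ≫ c₀)
  let u : M ⟶ G := e.inv ≫ v ≫ tnIncl G n
  have hu : (Over.pullback σ₀).map u = u₀ := by
    simp only [u, Functor.map_comp, hv, Category.assoc, hcc]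
    rw [← Functor.map_comp_assoc, e.inv_hom_id, CategoryTheory.Functor.map_id, Category.id_comp]
  have hun : u ^ n = 1 := by
    have ht : (tnIncl G n) ^ n = 1 := by
      refine Over.OverMorphism.ext ?_
      rw [← Category.comp_id (tnIncl G n), ← MonObj.comp_pow]
      show (pullback.fst _ _ ≫ (En G n).ι) ≫ (𝟙 G ^ n : G ⟶ G).left = _
      rw [Category.assoc, pullback.condition, Hom.one_def, Over.comp_left]
      simp
      rfl
    simp only [u]
    rw [← MonObj.comp_pow, ← MonObj.comp_pow, ht, MonObj.comp_one, MonObj.comp_one]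
  exact ⟨u, hu, hun⟩

set_option maxHeartbeats 1000000 in
/-- Existence and uniqueness. -/
theorem exists_unique_lift_local [IsNoetherianRing A] [IsAdicComplete (IsLocalRing.maximalIdeal A) A]
    {M : Over (Spec (CommRingCat.of A))} [GrpObj M] [IsFinite M.hom] [Smooth M.hom] (hM : SGA3x.IsMultTypeFT M)
    (u₀ : Red.bc σ₀ M ⟶ Red.bc σ₀ G) [IsMonHom u₀] (hc : Cent u₀) :
    ∃ (u : M ⟶ G) (n : ℕ), IsMonHom u ∧ (Over.pullback σ₀).map u = u₀ ∧
      (∀ s : Spec (CommRingCat.of A), (n : (Spec (CommRingCat.of A)).residueField s) ≠ 0) ∧ u ^ n = 1 ∧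
      ∀ u' : M ⟶ G, IsMonHom u' → (Over.pullback σ₀).map u' = u₀ → u' = u := by
  obtain ⟨n, hn, hpow⟩ := exists_global_kill (kill_id (H := M) hM)
  have h0 : (m : ℕ) → (𝟙 M : M ⟶ M) ^ m = 1 → (u₀ ^ m = 1) := fun m h => by
    have h1 : (𝟙 (Red.bc σ₀ M) : Red.bc σ₀ M ⟶ Red.bc σ₀ M) ^ m = 1 := by
      rw [← Extension.pow_bc, h]
      exact map_one (Over.pullback σ₀).homMonoidHom
    rw [← Category.id_comp u₀, ← Extension.pow_comp_hom, h1, MonObj.one_comp]
  have hu₀ : u₀ ^ n = 1 := h0 n hpow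
  obtain ⟨u, hu, hun⟩ := exists_torsion_lift (G := G) (M := M) hn u₀ hc hu₀
  refine ⟨u, n, ⟨?_, ?_⟩, hu, hn, hun, fun u' hu' hm => ?_⟩
  · haveI : IsFinite (𝟙_ (Over (Spec (CommRingCat.of A)))).hom := inferInstanceAs (IsFinite (𝟙 _))
    refine (eq_of_finite hn (η[M] ≫ u) η[G] ?_ ?_ ?_ ?_).1
    · rw [← MonObj.comp_pow, hun, MonObj.comp_one]
    · rw [show η[G] = 1 by rw [Hom.one_def, toUnit_unique (toUnit _) (𝟙 _), Category.id_comp], one_pow]
    · rw [Functor.map_comp, hu, show η[M] = 1 by rw [Hom.one_def, toUnit_unique (toUnit _) (𝟙 _), Category.id_comp],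
        show η[G] = 1 by rw [Hom.one_def, toUnit_unique (toUnit _) (𝟙 _), Category.id_comp],
        show (Over.pullback σ₀).map (1 : 𝟙_ _ ⟶ M) = 1 from map_one (Over.pullback σ₀).homMonoidHom,
        MonObj.one_comp]
      exact (map_one (Over.pullback σ₀).homMonoidHom).symm
    · rw [Functor.map_comp, hu]; exact hc.precomp _
  · haveI : IsFinite (M ⊗ M).hom := inferInstanceAs (IsFinite (pullback.fst M.hom M.hom ≫ M.hom))
    have hp : (fst M M * snd M M) ^ n = 1 := by
      rw [show fst M M * snd M M = μ[M] by rw [Hom.mul_def, lift_fst_snd, Category.id_comp],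
        ← Category.comp_id μ[M], ← MonObj.comp_pow, hpow, MonObj.comp_one]
    have hc' : (fst M M ≫ u) * (snd M M ≫ u) = (snd M M ≫ u) * (fst M M ≫ u) := by
      refine mul_inv_eq_iff_eq_mul.mp (eq_of_finite hn
        ((fst M M ≫ u) * (snd M M ≫ u) * (fst M M ≫ u)⁻¹) (snd M M ≫ u) ?_ ?_ ?_ ?_).1
      · rw [conj_pow, ← MonObj.comp_pow, hun, MonObj.comp_one, _root_.mul_one, mul_inv_cancel]
      · rw [← MonObj.comp_pow, hun, MonObj.comp_one]
      · rw [Functor.map_mul, Functor.map_mul, map_inv', Functor.map_comp, Functor.map_comp, hu,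
          (hc.precomp _).commute _, mul_inv_cancel_right]
      · rw [Functor.map_mul, Functor.map_mul, map_inv', Functor.map_comp, Functor.map_comp, hu,
          (hc.precomp _).commute _, mul_inv_cancel_right]
        exact hc.precomp _
    have h1 : μ[M] ≫ u = (fst M M ≫ u) * (snd M M ≫ u) := by
      refine (eq_of_finite hn _ _ ?_ ?_ ?_ ?_).1
      · rw [← MonObj.comp_pow, hun, MonObj.comp_one]
      · rw [(show Commute (fst M M ≫ u) (snd M M ≫ u) from hc').mul_pow, ← MonObj.comp_pow, ← MonObj.comp_pow, hun,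
          MonObj.comp_one, MonObj.comp_one, _root_.mul_one]
      · rw [Functor.map_comp, hu, Functor.map_mul, Functor.map_comp, Functor.map_comp, hu, ← MonObj.mul_comp,
          ← Functor.map_mul, show fst M M * snd M M = μ[M] by rw [Hom.mul_def, lift_fst_snd, Category.id_comp]]
      · rw [Functor.map_comp, hu]; exact hc.precomp _
    rw [h1, Hom.mul_def]
    congr 1
  · haveI := hu'
    refine (eq_of_finite hn u' u ?_ hun (hm.trans hu.symm) (by rw [hm]; exact hc)).1
    rw [← Category.id_comp u', ← Extension.pow_comp_hom, hpow, MonObj.one_comp]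

end Groth.Agent.Deform.CentralLift
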