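import Groth.Agent.Deform.CentralLift.Finite
import Groth.Agent.GrpSchLib.MultTypeBC

/-! Central homomorphisms from finite smooth groups of multiplicative type lift uniquely along thickenings. -/

set_option autoImplicit false
set_option linter.style.haveILetI false
set_option linter.unusedSectionVars false

universe u

open CategoryTheory CategoryTheory.Limits MonoidalCategory CartesianMonoidalCategory MonObj GrpObj AlgebraicGeometry
open SGA3x

attribute [local instance] CategoryTheory.Hom.monoid CategoryTheory.Hom.group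

namespace Groth.Agent.Deform.CentralLift

theorem surjective_SpecMap_mk {A : Type u} [CommRing A] (J : Ideal A) (hJ : ∀ x ∈ J, IsNilpotent x) :
    Surjective (Spec.map (CommRingCat.ofHom (Ideal.Quotient.mk J))) := by
  refine ⟨fun (p : PrimeSpectrum A) => ?_⟩
  have hp : p ∈ PrimeSpectrum.zeroLocus (RingHom.ker (Ideal.Quotient.mk J) : Set A) := fun x hx => by
    obtain ⟨n, hn⟩ := hJ x (Ideal.Quotient.eq_zero_iff_mem.mp hx)
    exact p.isPrime.mem_of_pow_mem n (hn ▸ zero_mem _)
  rw [← range_comap_of_surjective _ (Ideal.Quotient.mk J) Ideal.Quotient.mk_surjective] at hp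
  exact hp

variable {S S₀ : Scheme.{u}} (σ : S₀ ⟶ S) [IsClosedImmersion σ] [Surjective σ] {G : Over S} [GrpObj G]
  [Flat G.hom] [LocallyOfFinitePresentation G.hom]

theorem kill_bc {H : Over S} [GrpObj H] [Smooth H.hom] [IsFinite H.hom] (hH : SGA3x.IsMultTypeFT H) :
    Kill (𝟙 (Red.bc σ H)) := by
  haveI : Smooth (Red.bc σ H).hom := MorphismProperty.pullback_snd (P := @Smooth) _ _ ‹_›
  haveI : IsFinite (Red.bc σ H).hom := MorphismProperty.pullback_snd (P := @IsFinite) _ _ ‹_›
  exact kill_id (GrpSchLib.MultTypeBC.isMultTypeFT_bc σ hH)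

/-- Existence, uniqueness and centrality of lifts. -/
theorem exists_unique_lift {H : Over S} [GrpObj H] [Smooth H.hom] [IsFinite H.hom] (hH : SGA3x.IsMultTypeFT H)
    (u₀ : Red.bc σ H ⟶ Red.bc σ G) [IsMonHom u₀] (hc : Cent u₀) :
    ∃ u : H ⟶ G, IsMonHom u ∧ (Over.pullback σ).map u = u₀ ∧ Cent u ∧
      ∀ u' : H ⟶ G, IsMonHom u' → (Over.pullback σ).map u' = u₀ → u' = u := by
  haveI : Etale H.hom := etale_of_finite_smooth H.hom
  have hk₀ : Kill u₀ := by simpa using (kill_bc σ hH).postcomp u₀
  obtain ⟨u, hu, hk⟩ := exists_lift_kill σ (G := G) hc hk₀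
  have hcu : Cent u := hk.cent σ (by rw [hu]; exact hc)
  refine ⟨u, ⟨?_, ?_⟩, hu, hcu, fun u' hu' hm => ?_⟩
  · have h1 : η[H] ≫ u = 1 := by
      refine Kill.ext σ (hk.precomp _) kill_one ?_ (by rw [Functor.map_comp, hu]; exact hc.precomp _)
      rw [Functor.map_comp, hu, show η[H] = (1 : 𝟙_ (Over S) ⟶ H) by
          rw [Hom.one_def, toUnit_unique (toUnit _) (𝟙 _), Category.id_comp],
        show (Over.pullback σ).map (1 : 𝟙_ (Over S) ⟶ H) = 1 from map_one (Over.pullback σ).homMonoidHom,
        MonObj.one_comp, show (Over.pullback σ).map (1 : 𝟙_ (Over S) ⟶ G) = 1 from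
          map_one (Over.pullback σ).homMonoidHom]
    rw [h1, Hom.one_def, toUnit_unique (toUnit _) (𝟙 _), Category.id_comp]
  · have h1 : μ[H] ≫ u = (fst H H ≫ u) * (snd H H ≫ u) := by
      refine Kill.ext σ (hk.precomp _) ((hk.precomp _).mul (hk.precomp _) ((hcu.precomp _).commute _)) ?_
        (by rw [Functor.map_comp, hu]; exact hc.precomp _)
      rw [Functor.map_comp, hu, Functor.map_mul, Functor.map_comp, Functor.map_comp, hu, ← MonObj.mul_comp,
        ← Functor.map_mul, show fst H H * snd H H = μ[H] by rw [Hom.mul_def, lift_fst_snd, Category.id_comp]]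
    rw [h1, Hom.mul_def]
    congr 1
  · haveI := hu'
    have hk' : Kill u' := by simpa using (kill_id hH).postcomp u'
    exact Kill.ext σ hk' hk (hm.trans hu.symm) (by rw [hm]; exact hc)

end Groth.Agent.Deform.CentralLift
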