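import Groth.Agent.S0118
import Groth.Agent.GrpSchLib.HomFibre
import Groth.Agent.DSPtsLib.Basic
import Groth.Prelude.Def_SGA3x

/-! Morphisms into étale schemes along surjective closed immersions, and fibrewise étaleness. -/

set_option autoImplicit false
set_option linter.style.haveILetI false
set_option linter.unusedSectionVars false

universe u

open CategoryTheory CategoryTheory.Limits MonoidalCategory CartesianMonoidalCategory MonObj GrpObj AlgebraicGeometry
open SGA3x

namespace Groth.Agent.Deform.CentralLift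

open GrpSchLib GrpSchLib.Loci

variable {S S₀ : Scheme.{u}} (σ : S₀ ⟶ S)

theorem map_left_fst {X Y : Over S} (a : X ⟶ Y) :
    ((Over.pullback σ).map a).left ≫ pullback.fst Y.hom σ = pullback.fst X.hom σ ≫ a.left := by
  simp only [Over.pullback_map_left, pullback.lift_fst]

theorem exists_point [Surjective σ] (X : Over S) (x : X.left) :
    ∃ x₀ : ((Over.pullback σ).obj X).left, pullback.fst X.hom σ x₀ = x := by
  haveI : Surjective (pullback.fst X.hom σ) := MorphismProperty.pullback_fst (P := @Surjective) _ _ ‹_›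
  exact Surjective.surj x

/-- Maps into an étale scheme which agree on a thinner scheme with the same points agree. -/
theorem ext_of_etale [Surjective σ] {X Y : Over S} [Etale Y.hom] (a b : X ⟶ Y)
    (h : (Over.pullback σ).map a = (Over.pullback σ).map b) : a = b := by
  let ψ : X.left ⟶ pullback Y.hom Y.hom := pullback.lift a.left b.left ((Over.w a).trans (Over.w b).symm)
  have hp : pullback.fst X.hom σ ≫ a.left = pullback.fst X.hom σ ≫ b.left := by
    rw [← map_left_fst, ← map_left_fst, h]
  have hψ : pullback.fst X.hom σ ≫ ψ = (pullback.fst X.hom σ ≫ a.left) ≫ pullback.diagonal Y.hom := by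
    apply pullback.hom_ext
    · rw [Category.assoc, Category.assoc, pullback.lift_fst, pullback.diagonal_fst, Category.comp_id]
    · rw [Category.assoc, Category.assoc, pullback.lift_snd, pullback.diagonal_snd, Category.comp_id, hp]
  have hr : Set.range ψ ⊆ Set.range (pullback.diagonal Y.hom) := by
    rintro _ ⟨x, rfl⟩
    obtain ⟨x₀, rfl⟩ := exists_point σ X x
    refine ⟨(pullback.fst X.hom σ ≫ a.left) x₀, ?_⟩
    rw [← Scheme.Hom.comp_apply, ← hψ, Scheme.Hom.comp_apply]
  have hk := IsOpenImmersion.lift_fac (pullback.diagonal Y.hom) ψ hr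
  apply Over.OverMorphism.ext
  calc a.left = ψ ≫ pullback.fst _ _ := (pullback.lift_fst _ _ _).symm
    _ = ψ ≫ pullback.snd _ _ := by
      rw [← hk, Category.assoc, Category.assoc, pullback.diagonal_fst, pullback.diagonal_snd]
    _ = b.left := pullback.lift_snd _ _ _

/-- The restriction functor is full on étale schemes. -/
theorem exists_lift [IsClosedImmersion σ] [Surjective σ] {X Y : Over S} [hX : Etale X.hom] [hY : Etale Y.hom]
    (a₀ : (Over.pullback σ).obj X ⟶ (Over.pullback σ).obj Y) : ∃ a : X ⟶ Y, (Over.pullback σ).map a = a₀ := by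
  haveI := Groth.Agent.S0118.result σ
  let X' : S.Etale := Scheme.Etale.mk X.hom
  let Y' : S.Etale := Scheme.Etale.mk Y.hom
  let φ : (EtCoh.bc σ).obj X' ⟶ (EtCoh.bc σ).obj Y' := MorphismProperty.Over.homMk a₀.left (Over.w a₀)
  obtain ⟨ψ, hψ⟩ := (EtCoh.bc σ).map_surjective φ
  let a : X ⟶ Y := Over.homMk ((Scheme.Etale.forget S).map ψ).left (MorphismProperty.Over.w ψ)
  refine ⟨a, Over.OverMorphism.ext ?_⟩
  have h1 := congrArg (fun k => ((Scheme.Etale.forget S₀).map k).left) hψ
  exact h1

/-- An étale scheme over the closed subscheme is a restriction of one over the base. -/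
theorem exists_etale_obj [IsClosedImmersion σ] [Surjective σ] (V : Over S₀) [Etale V.hom] :
    ∃ W : Over S, Etale W.hom ∧ Nonempty ((Over.pullback σ).obj W ≅ V) := by
  haveI := Groth.Agent.S0118.result σ
  let A := (EtCoh.bc σ).objPreimage (Scheme.Etale.mk V.hom)
  let φ := (EtCoh.bc σ).objObjPreimageIso (Scheme.Etale.mk V.hom)
  exact ⟨Over.mk A.hom, A.prop, ⟨(Scheme.Etale.forget S₀).mapIso φ⟩⟩

/-- An iso of restrictions of étale schemes comes from an iso. -/
theorem exists_iso [IsClosedImmersion σ] [Surjective σ] {X Y : Over S} [Etale X.hom] [Etale Y.hom]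
    (e₀ : (Over.pullback σ).obj X ≅ (Over.pullback σ).obj Y) :
    ∃ e : X ≅ Y, (Over.pullback σ).map e.hom = e₀.hom := by
  obtain ⟨a, ha⟩ := exists_lift σ e₀.hom
  obtain ⟨b, hb⟩ := exists_lift σ e₀.inv
  refine ⟨⟨a, b, ext_of_etale σ _ _ ?_, ext_of_etale σ _ _ ?_⟩, ha⟩
  · rw [Functor.map_comp, ha, hb, Iso.hom_inv_id, CategoryTheory.Functor.map_id]
  · rw [Functor.map_comp, ha, hb, Iso.inv_hom_id, CategoryTheory.Functor.map_id]

/-- Étaleness at a point descends along flat base change, for finitely presented maps. -/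
theorem etale_loc_of_flat_bc {A' A B' B : Scheme.{u}} (v : A' ⟶ A) (d' : A' ⟶ B') (d : A ⟶ B) (q : B' ⟶ B)
    (h : IsPullback v d' d q) [Flat q] [LocallyOfFinitePresentation d] {x : A'} (hx : x ∈ loc @Etale d') :
    v x ∈ loc @Etale d := by
  haveI : LocallyOfFinitePresentation d' :=
    MorphismProperty.of_isPullback (P := @LocallyOfFinitePresentation) h ‹_›
  rw [etale_loc_eq] at hx ⊢
  refine ⟨?_, ?_⟩
  · have h1 := (HomFibre.mem_loc_smooth_iff d' x).mp hx.1
    rw [S2155.result d q d' v h (.inr inferInstance)] at h1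
    exact (HomFibre.mem_loc_smooth_iff d _).mpr h1
  · obtain ⟨U, hxU, hU, -⟩ := hx.2
    have h1 : MorLib.UnrLocus.Loc d' x := ⟨U, hxU, hU⟩
    rw [← h.isoPullback_hom_snd, MorLib.UnrLocus.loc_comp_left, MorLib.UnrLocus.loc_pullback,
      ← Scheme.Hom.comp_apply, h.isoPullback_hom_fst] at h1
    obtain ⟨W, hW, hu⟩ := h1
    exact ⟨W, hW, hu, MorphismProperty.comp_mem @LocallyOfFinitePresentation _ _ inferInstance ‹_›⟩

/-- A flat finitely presented scheme is étale if its restriction along a surjective closed immersion is. -/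
theorem etale_of_bc [IsClosedImmersion σ] [Surjective σ] {X : Over S} [Flat X.hom]
    [LocallyOfFinitePresentation X.hom] [Etale ((Over.pullback σ).obj X).hom] : Etale X.hom := by
  refine Loci.of_forall_mem _ _ fun x => ?_
  let s : S := X.hom x
  obtain ⟨s₀, hs₀⟩ := Surjective.surj (f := σ) s
  haveI : IsIso (σ.residueFieldMap s₀) := by
    rw [ConcreteCategory.isIso_iff_bijective]
    refine ⟨(σ.residueFieldMap s₀).hom.injective, fun y => ?_⟩
    obtain ⟨y, rfl⟩ := S₀.residue_surjective s₀ y
    obtain ⟨z, rfl⟩ := σ.stalkMap_surjective s₀ y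
    exact ⟨S.residue _ z, (ConcreteCategory.comp_apply _ _ _).symm.trans
      ((ConcreteCategory.congr_hom (Scheme.residue_residueFieldMap σ s₀) z).trans (ConcreteCategory.comp_apply _ _ _))⟩
  let t : Spec (S.residueField (σ s₀)) ⟶ S₀ := inv (Spec.map (σ.residueFieldMap s₀)) ≫ S₀.fromSpecResidueField s₀
  have ht : t ≫ σ = S.fromSpecResidueField (σ s₀) := by
    rw [Category.assoc, IsIso.inv_comp_eq, Scheme.Hom.SpecMap_residueFieldMap_fromSpecResidueField]
  have hF : Etale ((Over.pullback (S.fromSpecResidueField (σ s₀))).obj X).hom := by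
    show Etale (pullback.snd X.hom (S.fromSpecResidueField (σ s₀)))
    rw [← ht]
    have sq := (IsPullback.of_hasPullback (pullback.snd X.hom σ) t).paste_horiz (IsPullback.of_hasPullback X.hom σ)
    rw [← sq.isoPullback_inv_snd]
    exact (MorphismProperty.cancel_left_of_respectsIso @Etale _ _).mpr
      (MorphismProperty.pullback_snd (P := @Etale) _ _ ‹_›)
  rw [hs₀] at hF
  obtain ⟨z, hz⟩ : x ∈ Set.range (pullback.fst X.hom (S.fromSpecResidueField s)) := by
    rw [Scheme.Pullback.range_fst, Scheme.range_fromSpecResidueField]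
    exact rfl
  haveI : LocallyOfFiniteType (𝟙_ (Over S)).hom := inferInstanceAs (LocallyOfFiniteType (𝟙 S))
  have hu : (toUnit X).left = X.hom := by simp
  rw [← hu, show x = HomFibre.incl X s z from hz.symm, ← HomFibre.etale_iff (toUnit X) s z]
  haveI := hF
  haveI : IsIso ((Over.pullback (S.fromSpecResidueField s)).obj (𝟙_ (Over S))).hom :=
    inferInstanceAs (IsIso (pullback.snd (𝟙 S) (S.fromSpecResidueField s)))
  refine ⟨⊤, trivial, ?_⟩
  have hw : (HomFibre.fib (toUnit X) s).left = ((Over.pullback (S.fromSpecResidueField s)).obj X).hom ≫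
      inv ((Over.pullback (S.fromSpecResidueField s)).obj (𝟙_ (Over S))).hom := by
    rw [IsIso.eq_comp_inv]
    exact Over.w _
  rw [hw]
  haveI : Etale (inv ((Over.pullback (S.fromSpecResidueField s)).obj (𝟙_ (Over S))).hom) := inferInstance
  exact MorphismProperty.comp_mem _ _ _ inferInstance (MorphismProperty.comp_mem _ _ _ hF inferInstance)

end Groth.Agent.Deform.CentralLift
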