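import Groth.Agent.Deform.CentralLift.Main
import Groth.Agent.GrpSchLib.MonoSubgroup
import Groth.Agent.MultTypeFlat.Basic
import Groth.Agent.Deform.TorsionOrderScheme

/-! Central finite étale subgroups of multiplicative type lift uniquely along thickenings. -/

set_option autoImplicit false
set_option linter.style.haveILetI false
set_option linter.unusedSectionVars false

universe u

open CategoryTheory CategoryTheory.Limits MonoidalCategory CartesianMonoidalCategory MonObj GrpObj AlgebraicGeometry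
open SGA3x

attribute [local instance] CategoryTheory.Hom.monoid CategoryTheory.Hom.group

namespace Groth.Agent.Deform.CentralLift

variable {S S₀ : Scheme.{u}} (σ : S₀ ⟶ S) [IsClosedImmersion σ] [Surjective σ]

theorem eta_eq_one (A : Over S) [GrpObj A] : η[A] = (1 : 𝟙_ (Over S) ⟶ A) := by
  rw [Hom.one_def, toUnit_unique (toUnit _) (𝟙 _), Category.id_comp]

theorem mu_eq_mul (A : Over S) [GrpObj A] : μ[A] = fst A A * snd A A := by
  rw [Hom.mul_def, lift_fst_snd, Category.id_comp]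

theorem map_one' {X A : Over S} [GrpObj A] : (Over.pullback σ).map (1 : X ⟶ A) = 1 :=
  map_one (Over.pullback σ).homMonoidHom

theorem isMonHom_of_comp {T : Scheme.{u}} {A B C : Over T} [GrpObj A] [GrpObj B] [GrpObj C] (f : A ⟶ B) (g : B ⟶ C)
    [IsMonHom g] [Mono g] (h : IsMonHom (f ≫ g)) : IsMonHom f := by
  constructor
  · rw [← cancel_mono g, Category.assoc, h.one_hom, IsMonHom.one_hom g]
  · rw [← cancel_mono g, Category.assoc, h.mul_hom, Category.assoc, IsMonHom.mul_hom g, tensorHom_comp_tensorHom_assoc]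

/-- A flat finitely presented scheme whose restriction is isomorphic to an étale one is étale. -/
theorem etale_of_bc_iso {X : Over S} [Flat X.hom] [LocallyOfFinitePresentation X.hom] {V : Over S₀} [Etale V.hom]
    (e : (Over.pullback σ).obj X ≅ V) : Etale X.hom := by
  haveI : Etale ((Over.pullback σ).obj X).hom := by
    rw [← Over.w e.hom]
    exact (MorphismProperty.cancel_left_of_respectsIso @Etale _ _).mpr ‹_›
  exact etale_of_bc σ

/-- A group iso of restrictions of étale groups lifts. -/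
theorem exists_grp_iso {A B : Over S} [GrpObj A] [GrpObj B] [Etale A.hom] [Etale B.hom]
    (e₀ : Grp.mk (Red.bc σ A) ≅ Grp.mk (Red.bc σ B)) : Nonempty (Grp.mk A ≅ Grp.mk B) := by
  obtain ⟨e, he⟩ := exists_iso σ ((Grp.forget _).mapIso e₀)
  have he' : (Over.pullback σ).map e.hom = e₀.hom.hom.hom := he
  haveI : IsMonHom e.hom := by
    refine ⟨ext_of_etale σ _ _ ?_, ?_⟩
    · rw [Functor.map_comp, he', eta_eq_one, eta_eq_one, map_one', map_one']
      exact @MonObj.one_comp _ _ _ _ _ _ _ _ _ e₀.hom.hom.isMonHom_hom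
    · have h1 : μ[A] ≫ e.hom = (fst A A ≫ e.hom) * (snd A A ≫ e.hom) := by
        refine ext_of_etale σ _ _ ?_
        rw [mu_eq_mul, Functor.map_comp, Functor.map_mul, Functor.map_mul, Functor.map_comp, Functor.map_comp, he']
        exact @MonObj.mul_comp _ _ _ _ _ _ _ _ _ _ _ e₀.hom.hom.isMonHom_hom
      rw [h1, Hom.mul_def]
      congr 1
  exact ⟨Grp.mkIso' e⟩

theorem kill_of_map {X A : Over S} [GrpObj A] [Etale A.hom] {a : X ⟶ A} (hk : Kill ((Over.pullback σ).map a)) :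
    Kill a := by
  haveI : IsClosedImmersion (pullback.fst X.hom σ) :=
    MorphismProperty.pullback_fst (P := @IsClosedImmersion) _ _ ‹_›
  intro x
  obtain ⟨x₀, hx₀⟩ := exists_point σ X x
  obtain ⟨U₀, n, hxU, hn, hp⟩ := hk x₀
  have hemb := (pullback.fst X.hom σ).isClosedEmbedding
  have hcl : IsClosed (pullback.fst X.hom σ '' U₀.carrierᶜ) :=
    hemb.isClosedMap _ (isClosed_compl_iff.mpr U₀.isOpen)
  let U : X.left.Opens := ⟨(pullback.fst X.hom σ '' U₀.carrierᶜ)ᶜ, hcl.isOpen_compl⟩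
  have hUmem : ∀ z, pullback.fst X.hom σ z ∈ U ↔ z ∈ U₀ := fun z => by
    show ¬ _ ↔ _
    rw [hemb.injective.mem_set_image]
    exact not_not
  refine ⟨U, n, hx₀ ▸ (hUmem x₀).mpr hxU, fun w hw => ?_, ?_⟩
  · obtain ⟨w₀, rfl⟩ := exists_point σ X w
    rw [← hom_apply]
    exact ne_zero_map σ (hn w₀ ((hUmem w₀).mp hw))
  · let m := (Over.pullback σ).map (inclU U)
    have hm : Set.range m.left ⊆ Set.range U₀.ι := by
      rw [Scheme.Opens.range_ι]
      rintro _ ⟨z, rfl⟩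
      refine (hUmem _).mp ?_
      rw [← Scheme.Hom.comp_apply, map_left_fst]
      exact Subtype.mem _
    let r : (Over.pullback σ).obj (Over.mk (U.ι ≫ X.hom)) ⟶ Over.mk (U₀.ι ≫ ((Over.pullback σ).obj X).hom) :=
      Over.homMk (IsOpenImmersion.lift U₀.ι m.left hm) (by
        show IsOpenImmersion.lift U₀.ι m.left hm ≫ U₀.ι ≫ _ = _
        rw [IsOpenImmersion.lift_fac_assoc]
        exact Over.w m)
    have hr : r ≫ inclU U₀ = m := Over.OverMorphism.ext (IsOpenImmersion.lift_fac _ _ _)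
    refine ext_of_etale σ _ _ ?_
    rw [map_pow', map_one', Functor.map_comp, show (Over.pullback σ).map (inclU U) = r ≫ inclU U₀ from hr.symm,
      Category.assoc, ← MonObj.comp_pow, hp, MonObj.comp_one]

variable {G : Over S} [GrpObj G] [Flat G.hom] [LocallyOfFinitePresentation G.hom]

/-- Existence and uniqueness of the lifted subgroup. -/
theorem exists_unique_subgroup {H₀ : Over S₀} [GrpObj H₀] (j₀ : H₀ ⟶ Red.bc σ G) [IsMonHom j₀] [Mono j₀]
    [Smooth H₀.hom] [IsFinite H₀.hom] (hm₀ : SGA3x.IsMultTypeFT H₀) (hc₀ : Cent j₀) :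
    ∃ (H : Over S) (_ : GrpObj H) (j : H ⟶ G), IsMonHom j ∧ Mono j ∧ SGA3x.IsMultTypeFT H ∧
      (∃ e : Red.bc σ H ≅ H₀, e.hom ≫ j₀ = (Over.pullback σ).map j) ∧ Cent j ∧
      ∀ (H' : Over S) [GrpObj H'] (j' : H' ⟶ G) [IsMonHom j'] [Mono j'], SGA3x.IsMultTypeFT H' →
        (∃ e' : Red.bc σ H' ≅ H₀, e'.hom ≫ j₀ = (Over.pullback σ).map j') →
        ∃ φ : H' ≅ H, φ.hom ≫ j = j' := by
  haveI : Etale H₀.hom := etale_of_finite_smooth H₀.hom
  obtain ⟨H, hH, ⟨e⟩⟩ := exists_etale_obj σ H₀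
  have hid₀ : Kill (𝟙 H₀) := kill_id hm₀
  have hkj₀ : Kill j₀ := by simpa using hid₀.postcomp j₀
  let j₁ : (Over.pullback σ).obj H ⟶ (Over.pullback σ).obj G := e.hom ≫ j₀
  have hc₁ : Cent j₁ := hc₀.precomp _
  obtain ⟨j, hj, hk⟩ := exists_lift_kill σ (G := G) hc₁ (hkj₀.precomp e.hom)
  have hcj : Cent j := hk.cent σ (by rw [hj]; exact hc₁)
  haveI : Mono j := ⟨fun a b h => ext_of_etale σ a b (by
    have h1 := congrArg (Over.pullback σ).map h
    rw [Functor.map_comp, Functor.map_comp, hj] at h1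
    simpa [j₁, cancel_mono] using h1)⟩
  haveI : Etale (𝟙_ (Over S)).hom := inferInstanceAs (Etale (𝟙 S))
  haveI : Etale (H ⊗ H).hom := inferInstanceAs (Etale (pullback.fst H.hom H.hom ≫ H.hom))
  obtain ⟨η', hη'⟩ := exists_lift σ (X := 𝟙_ (Over S)) (Y := H)
    ((1 : (Over.pullback σ).obj (𝟙_ (Over S)) ⟶ H₀) ≫ e.inv)
  obtain ⟨ι', hι'⟩ := exists_lift σ (X := H) (Y := H) (e.hom⁻¹ ≫ e.inv)
  obtain ⟨μ', hμ'⟩ := exists_lift σ (X := H ⊗ H) (Y := H)
    ((((Over.pullback σ).map (fst H H) ≫ e.hom) * ((Over.pullback σ).map (snd H H) ≫ e.hom)) ≫ e.inv)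
  obtain ⟨str, hstr⟩ := GrpSchLib.exists_grpObj_of_mono j η'
    (Kill.ext σ (hk.precomp _) (by rw [eta_eq_one]; exact kill_one)
      (by rw [Functor.map_comp, hη', hj, eta_eq_one, map_one']; simp [j₁, MonObj.one_comp])
      (by rw [Functor.map_comp, hj]; exact hc₁.precomp _))
    μ'
    (Kill.ext σ (hk.precomp _) ((hk.precomp _).mul (hk.precomp _) ((hcj.precomp _).commute _))
      (by rw [Functor.map_comp, hμ', hj, Functor.map_mul, Functor.map_comp, Functor.map_comp, hj]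
          simp [j₁, MonObj.mul_comp])
      (by rw [Functor.map_comp, hj]; exact hc₁.precomp _))
    ι'
    (Kill.ext σ (hk.precomp _) hk.inv
      (by rw [Functor.map_comp, hι', map_inv', hj]; simp [j₁, GrpObj.inv_comp])
      (by rw [Functor.map_comp, hj]; exact hc₁.precomp _))
  letI := str
  haveI := hstr
  haveI hmj : IsMonHom ((Over.pullback σ).map j) := inferInstance
  haveI : IsMonHom e.hom := isMonHom_of_comp e.hom j₀ (by simpa only [hj, j₁] using hmj)
  refine ⟨H, str, j, hstr, inferInstance, ?_, ⟨e, hj.symm⟩, hcj, fun H' _ j' _ _ hm' ⟨e', he'⟩ => ?_⟩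
  · refine TorsionOrderScheme.isMultTypeFT_of_etale_split fun s => ?_
    obtain ⟨s₀, rfl⟩ := Surjective.surj (f := σ) s
    obtain ⟨W₀, f₀, M, iM, hf₀, ⟨w₀, hw₀⟩, hM, ⟨e₁⟩⟩ := QuasiIsotrivial.exists_etale_split hm₀ s₀
    haveI : AddGroup.FG M := hM
    haveI : Etale (Over.mk f₀).hom := hf₀
    obtain ⟨W, hW, ⟨ε⟩⟩ := exists_etale_obj σ (Over.mk f₀)
    let τ : pullback W.hom σ ⟶ W.left := pullback.fst W.hom σ
    haveI : IsClosedImmersion τ := MorphismProperty.pullback_fst (P := @IsClosedImmersion) _ _ ‹_›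
    haveI : Surjective τ := MorphismProperty.pullback_fst (P := @Surjective) _ _ ‹_›
    obtain ⟨a₁⟩ := GrpSchLib.MultTypeBC.bc_bc τ W.hom H
    obtain ⟨a₂⟩ := GrpSchLib.MultTypeBC.bc_congr (pullback.condition (f := W.hom) (g := σ)) H
    obtain ⟨a₃⟩ := GrpSchLib.MultTypeBC.bc_bc (pullback.snd W.hom σ) σ H
    obtain ⟨a₄⟩ := GrpSchLib.MultTypeBC.bc_iso (pullback.snd W.hom σ) (Grp.mkIso' e)
    obtain ⟨a₅⟩ := GrpSchLib.MultTypeBC.bc_congr
      (show pullback.snd W.hom σ = ε.hom.left ≫ f₀ from (Over.w ε.hom).symm) H₀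
    obtain ⟨a₆⟩ := GrpSchLib.MultTypeBC.bc_bc ε.hom.left f₀ H₀
    obtain ⟨a₇⟩ := GrpSchLib.MultTypeBC.bc_iso ε.hom.left e₁
    obtain ⟨a₈⟩ := GrpSchLib.MultTypeBC.bc_DS ε.hom.left M
    obtain ⟨a₉⟩ := GrpSchLib.MultTypeBC.bc_DS τ M
    let E := a₁ ≪≫ a₂ ≪≫ a₃.symm ≪≫ a₄ ≪≫ a₅ ≪≫ a₆.symm ≪≫ a₇ ≪≫ a₈ ≪≫ a₉.symm
    haveI : Etale (Red.bc W.hom H).hom := MorphismProperty.pullback_snd (P := @Etale) _ _ hH
    haveI : Etale (Red.bc τ (Red.bc W.hom H)).hom := MorphismProperty.pullback_snd (P := @Etale) _ _ ‹_›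
    haveI : Flat (Red.DS W.left M).hom := MultTypeFlat.flat_DS _ M
    haveI : LocallyOfFinitePresentation (Red.DS W.left M).hom := MultTypeFlat.lfp_DS _ M
    let El : (Over.pullback τ).obj (Red.DS W.left M) ≅ Red.bc τ (Red.bc W.hom H) := (Grp.forget _).mapIso E.symm
    haveI : Etale (Red.DS W.left M).hom := etale_of_bc_iso τ El
    obtain ⟨E'⟩ := exists_grp_iso τ E
    refine ⟨W.left, W.hom, M, iM, hW, ?_, hM, ⟨E'⟩⟩
    let z := ε.inv.left w₀
    refine ⟨pullback.fst W.hom σ z, ?_⟩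
    rw [← Scheme.Hom.comp_apply, pullback.condition, Scheme.Hom.comp_apply, ← hw₀]
    refine congrArg σ ?_
    rw [← Scheme.Hom.comp_apply]
    exact congrArg (fun k : W₀ ⟶ S₀ => k w₀) (Over.w ε.inv)
  · haveI : Flat H'.hom := MultTypeFlat.flat hm'
    haveI : LocallyOfFinitePresentation H'.hom := MultTypeFlat.lfp hm'
    haveI : Etale H'.hom := etale_of_bc_iso σ e'
    haveI hmj' : IsMonHom ((Over.pullback σ).map j') := inferInstance
    haveI : IsMonHom e'.hom := isMonHom_of_comp e'.hom j₀ (he' ▸ hmj')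
    have hid' : Kill (𝟙 (Red.bc σ H')) := by
      have := (hid₀.precomp e'.hom).postcomp e'.inv
      simpa using this
    have hkj' : Kill j' := by
      have h1 : Kill ((Over.pullback σ).map (𝟙 H')) := by rw [CategoryTheory.Functor.map_id]; exact hid'
      simpa using (kill_of_map σ h1).postcomp j'
    obtain ⟨φ, hφ⟩ := exists_iso σ (e' ≪≫ e.symm)
    refine ⟨φ, Kill.ext σ (hk.precomp _) hkj' ?_ ?_⟩
    · rw [Functor.map_comp, hφ, hj, ← he']
      simp [j₁]
    · rw [Functor.map_comp, hj]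
      exact hc₁.precomp _

end Groth.Agent.Deform.CentralLift
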