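import Groth.Agent.Deform.CentralLift.NilEt
import Groth.Agent.Deform.Extension
import Groth.Agent.S8395

/-! The étale scheme of central torsion of order invertible on the base. -/

set_option autoImplicit false
set_option linter.style.haveILetI false
set_option linter.unusedSectionVars false

universe u

open CategoryTheory CategoryTheory.Limits MonoidalCategory CartesianMonoidalCategory MonObj GrpObj AlgebraicGeometry
open SGA3x

attribute [local instance] CategoryTheory.Hom.monoid CategoryTheory.Hom.group

namespace Groth.Agent.Deform.CentralLift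

open GrpSchLib GrpSchLib.Loci

variable {S : Scheme.{u}} (G : Over S) [GrpObj G] (n : ℕ)

/-- Where the power map is étale. -/
def En : G.left.Opens := ⟨loc @Etale (𝟙 G ^ n : G ⟶ G).left, isOpen_loc _ _⟩

theorem etale_En : Etale ((En G n).ι ≫ (𝟙 G ^ n : G ⟶ G).left) := by
  refine of_forall_mem _ _ fun x => ?_
  obtain ⟨U, hx, hU⟩ : (En G n).ι x ∈ loc @Etale (𝟙 G ^ n : G ⟶ G).left := x.2
  refine ⟨(En G n).ι ⁻¹ᵁ U, hx, ?_⟩
  rw [← Category.assoc, ← morphismRestrict_ι, Category.assoc]
  exact IsZariskiLocalAtSource.comp hU _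

/-- The étale part of the `n`-torsion. -/
noncomputable def Tn : Over S := Over.mk (pullback.snd ((En G n).ι ≫ (𝟙 G ^ n : G ⟶ G).left) (η[G]).left)

instance etale_Tn : Etale (Tn G n).hom :=
  MorphismProperty.pullback_snd (P := @Etale) _ _ (etale_En G n)

/-- The inclusion of the étale part of the `n`-torsion. -/
noncomputable def tnIncl : Tn G n ⟶ G :=
  Over.homMk (pullback.fst _ _ ≫ (En G n).ι) (by
    show (pullback.fst _ _ ≫ (En G n).ι) ≫ G.hom = pullback.snd _ _
    have h := congrArg (fun k => k ≫ G.hom) (pullback.condition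
      (f := (En G n).ι ≫ (𝟙 G ^ n : G ⟶ G).left) (g := (η[G]).left))
    simp only [Category.assoc, Over.w] at h
    rw [Category.assoc]
    exact h.trans (Category.comp_id _))

instance mono_tnIncl : Mono (tnIncl G n) := by
  haveI : Mono (η[G]).left := by
    haveI : IsSplitMono (η[G]).left := IsSplitMono.mk' ⟨G.hom, Over.w _⟩
    infer_instance
  haveI : Mono (tnIncl G n).left := by
    show Mono (pullback.fst _ _ ≫ (En G n).ι)
    infer_instance
  exact Over.mono_of_mono_left _

variable {G n}

/-- Torsion points in the étale locus lie in the étale torsion scheme. -/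
theorem exists_factor {X : Over S} (a : X ⟶ G) (ha : a ^ n = 1) (hr : ∀ x : X.left, a.left x ∈ En G n) :
    ∃ a' : X ⟶ Tn G n, a' ≫ tnIncl G n = a := by
  have hr' : Set.range a.left ⊆ Set.range (En G n).ι := by
    rw [Scheme.Opens.range_ι]
    rintro _ ⟨x, rfl⟩
    exact hr x
  have h1 : a.left ≫ (𝟙 G ^ n : G ⟶ G).left = X.hom ≫ (η[G]).left := by
    rw [← Over.comp_left, MonObj.comp_pow, Category.comp_id, ha, Hom.one_def, Over.comp_left]
    simp
  refine ⟨Over.homMk (pullback.lift (IsOpenImmersion.lift (En G n).ι a.left hr') X.hom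
    (by rw [IsOpenImmersion.lift_fac_assoc, h1])) ?_, Over.OverMorphism.ext ?_⟩
  · exact pullback.lift_snd _ _ _
  · show pullback.lift _ _ _ ≫ pullback.fst _ _ ≫ (En G n).ι = a.left
    rw [pullback.lift_fst_assoc, IsOpenImmersion.lift_fac]

/-- A central field valued point lies in the étale locus of powers prime to the characteristic. -/
theorem mem_En [Flat G.hom] [LocallyOfFinitePresentation G.hom] {s : S} {K : Type u} [Field K]
    (φ : S.residueField s ⟶ CommRingCat.of K) (hn : (n : S.residueField s) ≠ 0)
    (t : (Over.map (Spec.map φ ≫ S.fromSpecResidueField s)).obj (𝟙_ (Over (Spec (CommRingCat.of K)))) ⟶ G)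
    (hc : ∀ (Y : Over (Spec (CommRingCat.of K)))
      (y : (Over.map (Spec.map φ ≫ S.fromSpecResidueField s)).obj Y ⟶ G),
      ((Over.map _).map (toUnit Y) ≫ t) * y = y * ((Over.map _).map (toUnit Y) ≫ t))
    (p : Spec (CommRingCat.of K)) : t.left p ∈ En G n := by
  let fs := S.fromSpecResidueField s
  let q₁ : Spec (CommRingCat.of K) ⟶ Spec (S.residueField s) := Spec.map φ
  let q := q₁ ≫ fs
  let GK := (Over.pullback q).obj G
  haveI : LocallyOfFiniteType GK.hom :=
    MorphismProperty.pullback_snd (P := @LocallyOfFiniteType) _ _ inferInstance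
  obtain ⟨g, hg⟩ := (DSPtsLib.theta_bijective (H := G) (Y := 𝟙_ (Over (Spec (CommRingCat.of K)))) q).2 t
  have hgc : ∀ (X : Over (Spec (CommRingCat.of K))) (x : X ⟶ GK), (toUnit X ≫ g) * x = x * (toUnit X ≫ g) := by
    intro X x
    refine (DSPtsLib.theta_bijective q).1 ?_
    rw [DSPtsLib.theta_mul, DSPtsLib.theta_mul, DSPtsLib.theta_comp, hg]
    exact hc X _
  have hnK : (n : K) ≠ 0 := fun h => hn (φ.hom.injective (by rw [map_natCast, map_zero]; exact h))
  obtain ⟨U, hgU, hU⟩ := Groth.Agent.S8395.result K GK n hnK g hgc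
  have hmem : g.left p ∈ loc @Etale (𝟙 GK ^ n : GK ⟶ GK).left := ⟨U, hgU ⟨p, rfl⟩, hU⟩
  rw [← Extension.pow_bc] at hmem
  let Gs := (Over.pullback fs).obj G
  let v : GK.left ⟶ Gs.left := pullback.lift (pullback.fst G.hom q) (pullback.snd G.hom q ≫ q₁)
    (pullback.condition.trans (Category.assoc _ _ _).symm)
  have hv1 : v ≫ pullback.fst G.hom fs = pullback.fst G.hom q := pullback.lift_fst _ _ _
  have hv2 : v ≫ pullback.snd G.hom fs = pullback.snd G.hom q ≫ q₁ := pullback.lift_snd _ _ _
  have sqv : IsPullback v (pullback.snd G.hom q) (pullback.snd G.hom fs) q₁ :=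
    IsPullback.of_right (by rw [hv1]; exact IsPullback.of_hasPullback G.hom q) hv2 (IsPullback.of_hasPullback G.hom fs)
  haveI : Flat q₁ := (HasRingHomProperty.Spec_iff (P := @Flat)).mpr
    (RingHom.Flat.of_isField (Field.toIsField _) _)
  haveI : Flat v := MorphismProperty.of_isPullback (P := @Flat) sqv.flip ‹_›
  let u : G ⟶ G := 𝟙 G ^ n
  let uK := ((Over.pullback q).map u).left
  let us := (HomFibre.fib u s).left
  have hK1 : uK ≫ pullback.fst G.hom q = pullback.fst G.hom q ≫ u.left := map_left_fst q u
  have hs1 : us ≫ pullback.fst G.hom fs = pullback.fst G.hom fs ≫ u.left := map_left_fst fs u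
  have hcomm : v ≫ us = uK ≫ v := by
    refine pullback.hom_ext ?_ ?_
    · rw [Category.assoc, Category.assoc, hv1, hs1, ← Category.assoc, hv1, hK1]
    · rw [Category.assoc, Category.assoc, hv2, show us ≫ pullback.snd G.hom fs = pullback.snd G.hom fs from Over.w _,
        hv2, ← Category.assoc, show uK ≫ pullback.snd G.hom q = pullback.snd G.hom q from Over.w _]
  have sq : IsPullback v uK us v := by
    refine IsPullback.of_right ?_ hcomm (Extension.isPullback_map_left fs u).flip
    rw [hv1]
    exact (Extension.isPullback_map_left q u).flip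
  haveI : LocallyOfFinitePresentation u.left := HomFibre.lfp_of_flat_lfp u
  haveI : LocallyOfFinitePresentation us :=
    MorphismProperty.of_isPullback (P := @LocallyOfFinitePresentation) (Extension.isPullback_map_left fs u).flip ‹_›
  have h1 := etale_loc_of_flat_bc v uK us v sq hmem
  have h2 := (HomFibre.etale_iff u s _).mp h1
  show t.left p ∈ loc @Etale u.left
  rw [← hg, DSPtsLib.theta_left, ← hv1, Scheme.Hom.comp_apply, Scheme.Hom.comp_apply]
  exact h2

end Groth.Agent.Deform.CentralLift
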